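import Groth.Agent.TFInterpNodeLib.RankOneStalk
import Groth.Agent.IdealMulLib.Basic
import Groth.Agent.CurveLib.DegTensor
import Groth.Agent.CurveLib.TensorDeg

/-!
# Rank one torsion free modules on nodal curves: the ideal of the non-invertible locus times an invertible module
-/

set_option autoImplicit false
set_option backward.isDefEq.respectTransparency false
set_option linter.style.haveILetI false
set_option maxHeartbeats 1600000

universe u

open CategoryTheory CategoryTheory.Limits AlgebraicGeometry TopologicalSpace Opposite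
open IsLocalRing Groth.Agent.PullbackMod Groth.Agent.DCohLib
open scoped TensorProduct

noncomputable section

namespace Groth.Agent.TFInterpNodeLib

variable {X : Scheme.{u}}

/-- The stalk ideal of a finite set of closed points. -/
theorem stalkIdeal_points {S : Set X} (hS : S.Finite) (hSc : IsClosed S) (hpts : ∀ y ∈ S, IsClosed ({y} : Set X)) (x : X) :
    (x ∈ S → IntMult.stalkIdeal (Scheme.IdealSheafData.vanishingIdeal ⟨S, hSc⟩) x = maximalIdeal (X.presheaf.stalk x)) ∧
    (x ∉ S → IntMult.stalkIdeal (Scheme.IdealSheafData.vanishingIdeal ⟨S, hSc⟩) x = ⊤) := by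
  refine ⟨fun hx => ?_, fun hx => IdealMulLib.stalkIdeal_eq_top _ fun h => hx ?_⟩
  · let B : Set X := S \ {x}
    have hB : IsClosed B := by
      rw [← Set.biUnion_of_singleton B]
      exact (hS.subset Set.sdiff_subset).isClosed_biUnion fun y hy => hpts y hy.1
    obtain ⟨U, hU, hxU, hle⟩ := exists_isAffineOpen_mem_and_subset (x := x) (U := (⟨Bᶜ, hB.isOpen_compl⟩ : X.Opens))
      (fun h => h.2 rfl)
    rw [IdealStalkLib.stalkIdeal_eq _ ⟨U, hU⟩ x hxU]
    letI : Algebra Γ(X, U) (X.presheaf.stalk x) := TopCat.Presheaf.algebra_section_stalk X.presheaf ⟨x, hxU⟩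
    haveI := hU.isLocalization_stalk ⟨x, hxU⟩
    have hpre : hU.fromSpec ⁻¹' S = {hU.primeIdealOf ⟨x, hxU⟩} := by
      ext p
      refine ⟨fun h => hU.fromSpec.isOpenEmbedding.injective (Eq.trans ?_ (hU.fromSpec_primeIdealOf ⟨x, hxU⟩).symm), ?_⟩
      · by_contra hne
        have hpU : hU.fromSpec p ∈ U := hU.range_fromSpec.le ⟨p, rfl⟩
        exact hle hpU ⟨h, hne⟩
      · rintro rfl
        rw [Set.mem_preimage, hU.fromSpec_primeIdealOf]
        exact hx
    show (PrimeSpectrum.vanishingIdeal (hU.fromSpec ⁻¹' S)).map (algebraMap Γ(X, U) _) = _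
    rw [hpre, PrimeSpectrum.vanishingIdeal_singleton]
    exact IsLocalization.AtPrime.map_eq_maximalIdeal _ _
  · rw [← SetLike.mem_coe, Scheme.IdealSheafData.coe_support_vanishingIdeal] at h
    exact h

theorem isInvertible_iff_flf {G : X.Modules} (h : FlatMod.IsFinLocFreeOfRank 1 G) : PicF.IsInvertible G := fun y => by
  obtain ⟨U, hy, ⟨e⟩⟩ := h y
  exact ⟨U, hy, ⟨e ≪≫ DCohLib.freeModOne _⟩⟩

theorem range_comp_tensor {I G : X.Modules} (f : I ⟶ Coh.structureModule X)
    (i : tmod (Coh.structureModule X) G ⟶ G) (x : X) (hi : Function.Surjective (stalkLin i x))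
    (e : X.presheaf.stalk x ≃ₗ[X.presheaf.stalk x] (Coh.structureModule X).presheaf.stalk x)
    (A : Ideal (X.presheaf.stalk x)) (hA : ∀ r, (∃ m, stalkLin f x m = e r) ↔ r ∈ A) :
    LinearMap.range (stalkLin (CurveLib.tmap f G ≫ i) x) =
      A • (⊤ : Submodule (X.presheaf.stalk x) (G.presheaf.stalk x)) := by
  let Ψ : ((Coh.structureModule X).presheaf.stalk x ⊗[X.presheaf.stalk x] G.presheaf.stalk x)
      →ₗ[X.presheaf.stalk x] G.presheaf.stalk x :=
    (stalkLin i x).comp (stalkTensor x (Coh.structureModule X) G).toLinearMap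
  have hΨ : Function.Surjective Ψ := hi.comp (stalkTensor x (Coh.structureModule X) G).surjective
  have hmul : ∀ (r : X.presheaf.stalk x) z, Ψ (e r ⊗ₜ z) = r • Ψ (e 1 ⊗ₜ z) := fun r z => by
    rw [← map_smul, TensorProduct.smul_tmul', ← map_smul, smul_eq_mul, mul_one]
  have hval : ∀ z, stalkLin (CurveLib.tmap f G ≫ i) x (stalkTensor x I G z) =
      Ψ ((stalkLin f x).rTensor _ z) := fun z => by
    rw [stalkLin_comp, LinearMap.comp_apply]
    exact congrArg (stalkLin i x) (stalkTensor_natural_left x (N := G) f z)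
  refine le_antisymm ?_ (Submodule.smul_le.2 fun r hr w hw => ?_)
  · rintro _ ⟨z, rfl⟩
    obtain ⟨z, rfl⟩ := (stalkTensor x I G).surjective z
    rw [hval]
    induction z using TensorProduct.induction_on with
    | zero => rw [map_zero, map_zero]; exact zero_mem _
    | add a b ha hb => rw [map_add, map_add]; exact add_mem ha hb
    | tmul a g =>
      obtain ⟨r, hr⟩ := e.surjective (stalkLin f x a)
      rw [LinearMap.rTensor_tmul, ← hr, hmul]
      exact Submodule.smul_mem_smul ((hA r).1 ⟨a, hr.symm⟩) trivial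
  · clear hw
    obtain ⟨t, rfl⟩ := hΨ w
    induction t using TensorProduct.induction_on with
    | zero => rw [map_zero, smul_zero]; exact zero_mem _
    | add a b ha hb => rw [map_add, smul_add]; exact add_mem ha hb
    | tmul o g =>
      obtain ⟨s, rfl⟩ := e.surjective o
      obtain ⟨m, hm⟩ := (hA r).2 hr
      refine ⟨stalkTensor x I G (m ⊗ₜ (s • g)), ?_⟩
      rw [hval, LinearMap.rTensor_tmul, hm, hmul r, hmul s, TensorProduct.tmul_smul, map_smul]

/-- The map `I ⊗ G → G`. -/
theorem exists_mul_map (J : X.IdealSheafData) {G : X.Modules} (hG : ∀ x, FreeAt 1 G x) :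
    ∃ ψ : tmod (ClSub.idealMod J) G ⟶ G, Mono ψ ∧ ∀ x : X, LinearMap.range (stalkLin ψ x) =
      IntMult.stalkIdeal J x • (⊤ : Submodule (X.presheaf.stalk x) (G.presheaf.stalk x)) := by
  let E := CurveLib.tmodUnit G
  haveI : Mono (ClSub.idealModι J) := by unfold ClSub.idealModι; infer_instance
  haveI := CurveLib.mono_tmap (ClSub.idealModι J) (E := G) hG
  exact ⟨CurveLib.tmap (ClSub.idealModι J) G ≫ E.hom, inferInstance, fun x =>
    range_comp_tensor _ E.hom x ((isIso_iff_stalk E.hom).1 inferInstance x).2 (RefOne.oEquiv x) _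
      (RefOne.idealModι_stalk J x).2⟩

theorem exists_rankOne (k : Type u) [Field k] [IsAlgClosed k] [X.Over (Spec (CommRingCat.of k))]
    [IsProper (X ↘ Spec (CommRingCat.of k))]
    (hequi : ∀ Z ∈ irreducibleComponents (X : Type u), topologicalKrullDim Z = 1) (hX : Curv2.AtWorstNodal k X)
    {L : X.Modules} (hL : Coh.IsCoh L) (hLt : TorSh.IsTorsionFree L)
    (hrk : ∀ η : X, closure ({η} : Set X) ∈ irreducibleComponents (X : Type u) →
      Module.finrank (X.presheaf.stalk η) (L.presheaf.stalk η) = 1) :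
    ∃ M : X.Modules, PicF.IsInvertible M ∧
      Nonempty (L ≅ CohB1.tensorMod (ClSub.idealMod (Scheme.IdealSheafData.vanishingIdeal
        ⟨closure {P : X | ¬ ∃ U : X.Opens, P ∈ U ∧ Nonempty (L.restrict U.ι ≅ Coh.structureModule (↑U : Scheme.{u}))},
          isClosed_closure⟩)) M) := by
  classical
  haveI := EulerIneqLib.isNoetherian_proper (X := X) k
  haveI := hL.1
  set S := {P : X | ¬ ∃ U : X.Opens, P ∈ U ∧ Nonempty (L.restrict U.ι ≅ Coh.structureModule (↑U : Scheme.{u}))}
  have hfree : ∀ x, x ∉ S → Nonempty (L.presheaf.stalk x ≃ₗ[X.presheaf.stalk x] (Fin 1 → X.presheaf.stalk x)) := fun x hx => by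
    obtain ⟨U, hxU, ⟨e⟩⟩ := not_not.1 hx
    exact freeAt_of_restrict_iso L (e ≪≫ (DCohLib.freeModOne _).symm) hxU
  have hcases : ∀ x ∈ S, Curv2.IsNode k X x ∧
      Nonempty (L.presheaf.stalk x ≃ₗ[X.presheaf.stalk x] maximalIdeal (X.presheaf.stalk x)) := fun x hx => by
    refine (stalk_cases k hequi hX hL hLt hrk x).resolve_left fun ⟨e⟩ => hx ?_
    obtain ⟨U, hxU, ⟨i⟩⟩ := exists_nhd_freeAt L (QCohLib.isFP_of_isCoh L hL)
      (show FreeAt 1 L x from ⟨e.symm ≪≫ₗ (LinearEquiv.funUnique (Fin 1) _ _).symm⟩)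
    exact ⟨U, hxU, ⟨i ≪≫ DCohLib.freeModOne _⟩⟩
  have hnfin := finite_nodes (X := X) k hequi hX
  have hnc : IsClosed {y : X | Curv2.IsNode k X y} := by
    rw [← Set.biUnion_of_singleton {y : X | Curv2.IsNode k X y}]
    exact hnfin.isClosed_biUnion fun y hy => hy.1
  have hSfin : S.Finite := hnfin.subset fun x hx => (hcases x hx).1
  have hSpts : ∀ y ∈ S, IsClosed ({y} : Set X) := fun y hy => (hcases y hy).1.1
  have hSc : IsClosed S := by
    rw [← Set.biUnion_of_singleton S]
    exact hSfin.isClosed_biUnion hSpts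
  let a : X → ℕ := fun x => if x ∈ S then 0 else 1
  obtain ⟨G, j, hG, hj, hoff, hon⟩ := exists_super k (⟨_, hnc.isOpen_compl⟩ : X.Opens) (fun x => Iff.rfl) 1 hL a
    (fun x hx => hfree x fun h => hx (hcases x h).1) (fun x _ => by
      by_cases hxS : x ∈ S
      · obtain ⟨e⟩ := (hcases x hxS).2
        refine ⟨by simp [a, hxS], ?_⟩
        rw [show a x = 0 from if_pos hxS]
        exact ⟨e ≪≫ₗ (LinearEquiv.funUnique (Fin 1) _ _).symm ≪≫ₗ LinearEquiv.uniqueProd.symm⟩
      · obtain ⟨e⟩ := hfree x hxS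
        refine ⟨by simp [a, hxS], ?_⟩
        rw [show a x = 1 from if_neg hxS]
        haveI : IsEmpty (Fin (1 - 1)) := inferInstanceAs (IsEmpty (Fin 0))
        exact ⟨e ≪≫ₗ LinearEquiv.prodUnique.symm⟩)
  have hGfree : ∀ x, FreeAt 1 G x := fun x => by
    obtain ⟨U, hx, ⟨i⟩⟩ := hG x
    haveI : Coh.IsQCoh G := (CurveLib.isCoh_of_isFinLocFree (fun y => by
      obtain ⟨V, hy, hV⟩ := hG y
      exact ⟨V, 1, hy, hV⟩)).1
    exact freeAt_of_restrict_iso G i hx
  have hrange : ∀ x, LinearMap.range (stalkLin j x) =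
      IntMult.stalkIdeal (Scheme.IdealSheafData.vanishingIdeal ⟨closure S, isClosed_closure⟩) x •
        (⊤ : Submodule (X.presheaf.stalk x) (G.presheaf.stalk x)) := fun x => by
    have hcl : (⟨closure S, isClosed_closure⟩ : Closeds X) = ⟨S, hSc⟩ := Closeds.ext hSc.closure_eq
    rw [hcl]
    by_cases hxS : x ∈ S
    · rw [(stalkIdeal_points hSfin hSc hSpts x).1 hxS]
      obtain ⟨hm, hlen⟩ := hon x (hcases x hxS).1
      rw [show 1 - a x = 1 by simp [a, hxS]] at hlen
      let Q := TFNodeLib.cokerStalkEquiv j x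
      have hle : maximalIdeal (X.presheaf.stalk x) • (⊤ : Submodule _ (G.presheaf.stalk x)) ≤ LinearMap.range (stalkLin j x) := by
        refine Submodule.smul_le.2 fun t ht z _ => (Submodule.Quotient.mk_eq_zero _).1 (Q.injective ?_)
        rw [Submodule.Quotient.mk_smul, map_smul, map_zero]
        exact (Submodule.mem_bot _).1 (hm.le (Submodule.smul_mem_smul ht trivial))
      refine le_antisymm ?_ hle
      have hne : LinearMap.range (stalkLin j x) ≠ ⊤ := fun htop => by
        haveI : Subsingleton (G.presheaf.stalk x ⧸ LinearMap.range (stalkLin j x)) :=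
          Submodule.Quotient.subsingleton_iff.2 htop
        haveI := Q.symm.toEquiv.subsingleton
        rw [Module.length_eq_zero] at hlen
        exact zero_ne_one hlen
      obtain ⟨e⟩ := hGfree x
      let e1 := e ≪≫ₗ LinearEquiv.funUnique (Fin 1) _ _
      intro z hz
      have hzI : e1 z ∈ (LinearMap.range (stalkLin j x)).map e1.toLinearMap := ⟨z, hz, rfl⟩
      have hI : (LinearMap.range (stalkLin j x)).map e1.toLinearMap ≤ maximalIdeal (X.presheaf.stalk x) :=
        IsLocalRing.le_maximalIdeal fun h => hne (Submodule.map_injective_of_injective e1.injective (h.trans (by simp)))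
      rw [show z = e1 z • e1.symm 1 from e1.injective (by simp)]
      exact Submodule.smul_mem_smul (hI hzI) trivial
    · rw [(stalkIdeal_points hSfin hSc hSpts x).2 hxS, Submodule.top_smul, LinearMap.range_eq_top]
      have hs : Subsingleton ((cokernel j).presheaf.stalk x) := by
        by_cases hn : Curv2.IsNode k X x
        · obtain ⟨-, hlen⟩ := hon x hn
          rw [show 1 - a x = 0 by simp [a, hxS]] at hlen
          exact Module.length_eq_zero_iff.1 (hlen.trans Nat.cast_zero)
        · exact hoff x hn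
      haveI := (TFNodeLib.cokerStalkEquiv j x).toEquiv.subsingleton
      exact LinearMap.range_eq_top.1 (Submodule.Quotient.subsingleton_iff.1 ‹_›)
  obtain ⟨ψ, hψ, hψr⟩ := exists_mul_map (Scheme.IdealSheafData.vanishingIdeal ⟨closure S, isClosed_closure⟩) hGfree
  haveI := hj
  haveI := hψ
  have hfac : ψ ≫ cokernel.π j = 0 := (eq_zero_iff_stalk _).2 fun x => LinearMap.ext fun z => by
    rw [stalkLin_comp, LinearMap.comp_apply, LinearMap.zero_apply]
    obtain ⟨w, hw⟩ := ((hψr x).trans (hrange x).symm).le ⟨z, rfl⟩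
    rw [← hw, ← LinearMap.comp_apply, ← stalkLin_comp, cokernel.condition, (eq_zero_iff_stalk _).1 rfl x,
      LinearMap.zero_apply]
  let χ := Abelian.monoLift j ψ hfac
  haveI : IsIso χ := (isIso_iff_stalk χ).2 fun x => by
    have hc : (stalkLin j x).comp (stalkLin χ x) = stalkLin ψ x := by rw [← stalkLin_comp, Abelian.monoLift_comp]
    refine ⟨Function.Injective.of_comp (f := stalkLin j x) ?_, fun w => ?_⟩
    · rw [← LinearMap.coe_comp, hc]
      exact (mono_iff_stalk ψ).1 hψ x
    · obtain ⟨z, hz⟩ := ((hrange x).trans (hψr x).symm).le ⟨w, rfl⟩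
      exact ⟨z, (mono_iff_stalk j).1 hj x (by rw [← LinearMap.comp_apply, hc, hz])⟩
  exact ⟨G, isInvertible_iff_flf hG, ⟨(asIso χ).symm⟩⟩

end Groth.Agent.TFInterpNodeLib
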