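import Groth.Agent.TFInterpNodeLib.Step
import Groth.Agent.TFNodeLib.Main
import Groth.Agent.H6CurveCorr
import Groth.Agent.FreeFiniteLib.Basic
import Groth.Agent.QuotRepLib.ProjAmb
import Groth.Agent.PullbackMod.LimFree
import Groth.Prelude

/-!
# A locally free module containing a torsion free one, with the least cokernel at the nodes
-/

set_option autoImplicit false
set_option backward.isDefEq.respectTransparency false
set_option linter.style.haveILetI false
set_option maxHeartbeats 1000000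

universe u

open CategoryTheory CategoryTheory.Limits AlgebraicGeometry TopologicalSpace Opposite
open IsLocalRing Groth.Agent.PullbackMod Groth.Agent.DCohLib

noncomputable section

namespace Groth.Agent.TFInterpNodeLib

/-- The standard inclusion `O^a × m^b → O^r`. -/
theorem exists_incl (O : Type u) [CommRing O] [IsLocalRing O] {M L : Type u} [AddCommGroup M] [Module O M]
    [AddCommGroup L] [Module O L] {r a : ℕ} (ha : a ≤ r)
    (e : M ≃ₗ[O] ((Fin a → O) × (Fin (r - a) → maximalIdeal O))) (eL : L ≃ₗ[O] (Fin r → O)) :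
    ∃ l : M →ₗ[O] L, Function.Injective l ∧ (∀ t ∈ maximalIdeal O, ∀ z : L, t • z ∈ LinearMap.range l) ∧
      Module.length O (L ⧸ LinearMap.range l) = ((r - a : ℕ) : ℕ∞) := by
  let b := r - a
  let P : ((Fin a → O) × (Fin b → O)) ≃ₗ[O] L :=
    (LinearEquiv.sumArrowLequivProdArrow _ _ O O).symm ≪≫ₗ
      LinearEquiv.funCongrLeft O O ((finCongr (Nat.add_sub_cancel' ha).symm).trans finSumFinEquiv.symm) ≪≫ₗ eL.symm
  let inc : (Fin b → maximalIdeal O) →ₗ[O] (Fin b → O) := (maximalIdeal O).subtype.compLeft (Fin b)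
  let l : M →ₗ[O] L := P.toLinearMap.comp ((LinearMap.id.prodMap inc).comp e.toLinearMap)
  have hinc : Function.Injective inc := fun v w h => funext fun i => Subtype.ext (congrFun h i)
  let q : L →ₗ[O] (Fin b → ResidueField O) :=
    ((Algebra.linearMap O (ResidueField O)).compLeft (Fin b)).comp ((LinearMap.snd O _ _).comp P.symm.toLinearMap)
  have hq : Function.Surjective q := fun v => by
    choose w hw using fun i => IsLocalRing.residue_surjective (v i)
    exact ⟨P (0, w), funext fun i => by simpa [q] using hw i⟩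
  have hker : LinearMap.range l = LinearMap.ker q := by
    ext z
    constructor
    · rintro ⟨m, rfl⟩
      refine funext fun i => ?_
      simp only [q, l, LinearMap.comp_apply, LinearEquiv.coe_coe, LinearEquiv.symm_apply_apply]
      exact Ideal.Quotient.eq_zero_iff_mem.2 ((e m).2 i).2
    · intro hz
      have hm : ∀ i, (P.symm z).2 i ∈ maximalIdeal O := fun i =>
        Ideal.Quotient.eq_zero_iff_mem.1 (congrFun hz i)
      refine ⟨e.symm ((P.symm z).1, fun i => ⟨_, hm i⟩), ?_⟩
      show P ((LinearMap.id.prodMap inc) (e (e.symm _))) = z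
      rw [LinearEquiv.apply_symm_apply]
      exact P.apply_symm_apply z
  refine ⟨l, P.injective.comp ((Function.Injective.prodMap Function.injective_id hinc).comp e.injective), ?_, ?_⟩
  · intro t ht z
    rw [hker, LinearMap.mem_ker, map_smul]
    refine funext fun i => ?_
    rw [Pi.smul_apply, Algebra.smul_def]
    exact mul_eq_zero_of_left (Ideal.Quotient.eq_zero_iff_mem.2 ht) _
  · rw [((Submodule.quotEquivOfEq _ _ hker) ≪≫ₗ q.quotKerEquivOfSurjective hq).length_eq]
    haveI : IsSimpleModule O (ResidueField O) := by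
      have : IsSimpleModule O (O ⧸ maximalIdeal O) :=
        isSimpleModule_iff_isCoatom.2 (inferInstance : (maximalIdeal O).IsMaximal).out
      exact this
    simp [Module.length_eq_one, b]

variable (k : Type u) [Field k] [IsAlgClosed k]
  {X : Scheme.{u}} [X.Over (Spec (CommRingCat.of k))] [IsProper (X ↘ Spec (CommRingCat.of k))]

theorem exists_super (U : X.Opens) (hU : ∀ x : X, x ∈ U ↔ ¬ Curv2.IsNode k X x)
    (r : ℕ) {F : X.Modules} (hF : Coh.IsCoh F) (a : X → ℕ)
    (hfree : ∀ x : X, ¬ Curv2.IsNode k X x →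
      Nonempty (F.presheaf.stalk x ≃ₗ[X.presheaf.stalk x] (Fin r → X.presheaf.stalk x)))
    (htype : ∀ x : X, Curv2.IsNode k X x → a x ≤ r ∧
      Nonempty (F.presheaf.stalk x ≃ₗ[X.presheaf.stalk x]
        ((Fin (a x) → X.presheaf.stalk x) × (Fin (r - a x) → maximalIdeal (X.presheaf.stalk x))))) :
    ∃ (G : X.Modules) (j : F ⟶ G), FlatMod.IsFinLocFreeOfRank r G ∧ Mono j ∧
      (∀ x : X, ¬ Curv2.IsNode k X x → Subsingleton ((cokernel j).presheaf.stalk x)) ∧
      (∀ x : X, Curv2.IsNode k X x →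
        maximalIdeal (X.presheaf.stalk x) • (⊤ : Submodule (X.presheaf.stalk x) ((cokernel j).presheaf.stalk x)) = ⊥ ∧
        Module.length (X.presheaf.stalk x) ((cokernel j).presheaf.stalk x) = ((r - a x : ℕ) : ℕ∞)) := by
  classical
  haveI := EulerIneqLib.isNoetherian_proper (X := X) k
  haveI := hF.1
  let N := FlatMod.freeMod X r
  have hN : Coh.IsCoh N := QuotRep.isCoh_freeMod' X r
  haveI := hN.1
  obtain ⟨eTop⟩ : Nonempty (N.restrict (⊤ : X.Opens).ι ≅ FlatMod.freeMod _ r) :=
    FreeFiniteLib.nonempty_restrict_freeMod _ r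
  -- the finite set of nodes
  have hfin : ((U : Set X)ᶜ).Finite := H6CurveCorr.finite_of_isClosed_points U.2.isClosed_compl
    fun x hx => (not_not.1 (mt (hU x).2 hx)).1
  let Sg := hfin.toFinset
  have hmem : ∀ x, x ∈ Sg ↔ Curv2.IsNode k X x := fun x => by
    simp [Sg, hU x]
  have hl : ∀ x : X, Curv2.IsNode k X x → ∃ l : F.presheaf.stalk x →ₗ[X.presheaf.stalk x] N.presheaf.stalk x,
      Function.Injective l ∧ (∀ t ∈ maximalIdeal (X.presheaf.stalk x), ∀ z, t • z ∈ LinearMap.range l) ∧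
      Module.length (X.presheaf.stalk x) (N.presheaf.stalk x ⧸ LinearMap.range l) = ((r - a x : ℕ) : ℕ∞) := fun x hx => by
    obtain ⟨ha, ⟨e⟩⟩ := htype x hx
    obtain ⟨eN⟩ := freeAt_of_restrict_iso N eTop (x := x) trivial
    exact exists_incl _ ha e eN
  choose l hli hla hll using hl
  -- induction over the nodes
  have key : ∀ S : Finset X, S ⊆ Sg → ∃ (G : X.Modules) (j : F ⟶ G), Mono j ∧
      (∀ y, y ∉ S → Function.Bijective (stalkLin j y)) ∧
      ∀ x ∈ S, (∃ W : X.Opens, x ∈ W ∧ (∀ y ∈ W, y ∈ Sg → y = x) ∧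
          Nonempty (G.restrict W.ι ≅ FlatMod.freeMod (↑W) r)) ∧
        ∀ hx : Curv2.IsNode k X x, Nonempty ((N.presheaf.stalk x ⧸ LinearMap.range (l x hx)) ≃ₗ[X.presheaf.stalk x]
          (G.presheaf.stalk x ⧸ LinearMap.range (stalkLin j x))) := by
    intro S
    induction S using Finset.induction_on with
    | empty =>
      intro _
      exact ⟨F, 𝟙 F, inferInstance, fun y _ => (isIso_iff_stalk (𝟙 F)).1 inferInstance y, fun x hx => absurd hx (Finset.notMem_empty x)⟩
    | insert x S hxS ih =>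
      intro hS
      rw [Finset.insert_subset_iff] at hS
      obtain ⟨G, j, hj, hbij, hdata⟩ := ih hS.2
      have hx : Curv2.IsNode k X x := (hmem x).1 hS.1
      let W₀ : X.Opens := ⟨((Sg.erase x : Finset X) : Set X)ᶜ, (show IsClosed ((Sg.erase x : Finset X) : Set X) by
        rw [← Set.biUnion_of_singleton ((Sg.erase x : Finset X) : Set X)]
        exact (Sg.erase x).finite_toSet.isClosed_biUnion fun z hz =>
          ((hmem z).1 (Finset.mem_of_mem_erase hz)).1).isOpen_compl⟩
      have hxW₀ : x ∈ W₀ := fun h => Finset.notMem_erase x Sg h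
      have hW₀ : ∀ y ∈ W₀, y ∈ Sg → y = x := fun y hy hyS => by
        by_contra hne
        exact hy (Finset.mem_erase.2 ⟨hne, hyS⟩)
      obtain ⟨G', i, hi, hib, ⟨W, hxW, hW, ⟨eW⟩⟩, hq⟩ := exists_step hF hN j hx.1 (l x hx) (hli x hx) (hla x hx) hxW₀
        (fun y hy => hbij y fun hyS => hxS (hW₀ y hy (hS.2 hyS) ▸ hyS))
      haveI := hj
      haveI := hi
      refine ⟨G', j ≫ i, inferInstance, fun y hy => ?_, fun z hz => ?_⟩
      · rw [stalkLin_comp]
        exact (hib y fun h => hy (h ▸ Finset.mem_insert_self x S)).comp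
          (hbij y fun h => hy (Finset.mem_insert_of_mem h))
      rcases Finset.mem_insert.1 hz with rfl | hz
      · obtain ⟨eN⟩ := FreeFiniteLib.nonempty_restrict_freeMod (Y := X) W.ι r
        exact ⟨⟨W, hxW, fun y hy => hW₀ y (hW hy), ⟨eW ≪≫ eN⟩⟩, fun _ => hq⟩
      · obtain ⟨⟨W', hzW', hW', ⟨e'⟩⟩, hq'⟩ := hdata z hz
        have hne : z ≠ x := fun h => hxS (h ▸ hz)
        haveI := isIso_restrict_of_bijective i W' fun y hy => hib y fun h => hne ((hW' y hy (h ▸ hS.1)).symm.trans h)
        refine ⟨⟨W', hzW', hW', ⟨(asIso ((Scheme.Modules.restrictFunctor W'.ι).map i)).symm ≪≫ e'⟩⟩, fun hzn => ?_⟩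
        obtain ⟨eq'⟩ := hq' hzn
        refine ⟨eq' ≪≫ₗ Submodule.Quotient.equiv _ _ (LinearEquiv.ofBijective _ (hib z hne)) ?_⟩
        rw [stalkLin_comp, LinearMap.range_comp]
        rfl
  obtain ⟨G, j, hj, hbij, hdata⟩ := key Sg le_rfl
  refine ⟨G, j, fun y => ?_, hj, fun x hx => ?_, fun x hx => ?_⟩
  · by_cases hy : y ∈ Sg
    · obtain ⟨⟨W, hyW, -, he⟩, -⟩ := hdata y hy
      exact ⟨W, hyW, he⟩
    · have hyU : y ∈ U := (hU y).2 fun h => hy ((hmem y).2 h)
      obtain ⟨V, hyV, ⟨eF⟩⟩ := exists_nhd_freeAt F (QCohLib.isFP_of_isCoh F hF) (hfree y ((hU y).1 hyU))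
      obtain ⟨eF'⟩ := FreeFiniteLib.nonempty_restrict_free_of_le F (inf_le_left : V ⊓ U ≤ V) eF
      haveI := isIso_restrict_of_bijective j (V ⊓ U) fun v hv => hbij v fun h => (hU v).1 hv.2 ((hmem v).1 h)
      exact ⟨V ⊓ U, ⟨hyV, hyU⟩, ⟨(asIso ((Scheme.Modules.restrictFunctor (V ⊓ U).ι).map j)).symm ≪≫ eF'⟩⟩
  · refine (TFNodeLib.cokerStalkEquiv j x).symm.toEquiv.subsingleton_congr.2 ?_
    rw [Submodule.Quotient.subsingleton_iff, LinearMap.range_eq_top]
    exact (hbij x fun h => hx ((hmem x).1 h)).2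
  · obtain ⟨eq⟩ := (hdata x ((hmem x).2 hx)).2 hx
    let E := eq ≪≫ₗ TFNodeLib.cokerStalkEquiv j x
    refine ⟨?_, E.length_eq.symm.trans (hll x hx)⟩
    refine le_bot_iff.1 (Submodule.smul_le.2 fun t ht z _ => (Submodule.mem_bot _).2 ?_)
    obtain ⟨w, rfl⟩ := E.surjective z
    obtain ⟨w, rfl⟩ := Submodule.Quotient.mk_surjective _ w
    rw [← map_smul, ← Submodule.Quotient.mk_smul, (Submodule.Quotient.mk_eq_zero _).2 (hla x hx t ht w), map_zero]

end Groth.Agent.TFInterpNodeLib
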