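import Groth.Agent.TFInterpNodeLib.RankOneStalk
import Groth.Agent.StalkHomLib.StalkExt
import Groth.Agent.StalkHomLib.SectHom
import Groth.Agent.EtAlgEasy.PrinPartStalkMod
import Groth.Agent.AmpleEmb.Generated
import Groth.Agent.ProjBundleLib.FTQuot
import Groth.Agent.GenPtLib.Basic
import Groth.Agent.S7835
import Mathlib.Algebra.Module.Submodule.Union

/-!
# Depth one modules of uniform rank embed in sums of ample powers
-/

set_option autoImplicit false
set_option backward.isDefEq.respectTransparency false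
set_option linter.style.haveILetI false
set_option maxHeartbeats 1600000

universe u

open CategoryTheory CategoryTheory.Limits AlgebraicGeometry TopologicalSpace Opposite
open IsLocalRing Groth.Agent.PullbackMod Groth.Agent.DCohLib Groth.Agent.StalkHomLib
open scoped TensorProduct

noncomputable section

namespace Groth.Agent.TFInterpNodeLib

section Alg

variable {R : Type u} [CommRing R] {F P : Type u} [AddCommGroup F] [Module R F] [AddCommGroup P] [Module R P]
  {r : ℕ}

theorem finrank_hom_rank_one (hR : IsField R) (eF : F ≃ₗ[R] (Fin r → R)) (eP : P ≃ₗ[R] R) :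
    Module.finrank R (F →ₗ[R] P) = r := by
  letI := hR.toField
  haveI : Module.Finite R F := Module.Finite.equiv eF.symm
  haveI : Module.Finite R P := Module.Finite.equiv eP.symm
  rw [Module.finrank_linearMap, eF.finrank_eq, eP.finrank_eq, Module.finrank_fin_fun, Module.finrank_self, mul_one]

theorem span_lt_top (hR : IsField R) (eF : F ≃ₗ[R] (Fin r → R)) (eP : P ≃ₗ[R] R) {i : ℕ} (hi : i < r)
    (v : Fin i → (F →ₗ[R] P)) : Submodule.span R (Set.range v) ≠ ⊤ := by
  letI := hR.toField
  intro h
  have h1 : Module.finrank R (Submodule.span R (Set.range v)) ≤ Fintype.card (Fin i) := finrank_range_le_card v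
  rw [h, finrank_top, finrank_hom_rank_one hR eF eP, Fintype.card_fin] at h1
  omega

theorem bijective_pi (hR : IsField R) (eF : F ≃ₗ[R] (Fin r → R)) (eP : P ≃ₗ[R] R) {v : Fin r → (F →ₗ[R] P)}
    (hv : LinearIndependent R v) : Function.Bijective (LinearMap.pi v) := by
  letI := hR.toField
  haveI : Module.Finite R F := Module.Finite.equiv eF.symm
  haveI : Module.Finite R P := Module.Finite.equiv eP.symm
  have hs : Submodule.span R (Set.range v) = ⊤ := by
    refine Submodule.eq_top_of_finrank_eq ?_
    rw [finrank_span_eq_card hv, finrank_hom_rank_one hR eF eP, Fintype.card_fin]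
  have hinj : Function.Injective (LinearMap.pi v) := by
    refine (injective_iff_map_eq_zero _).2 fun z hz => ?_
    have hall : ∀ φ : F →ₗ[R] P, φ z = 0 := fun φ => by
      have hφ : φ ∈ Submodule.span R (Set.range v) := hs ▸ trivial
      induction hφ using Submodule.span_induction with
      | mem w hw => obtain ⟨i, rfl⟩ := hw; exact congrFun hz i
      | zero => rfl
      | add a b _ _ ha hb => rw [LinearMap.add_apply, ha, hb, add_zero]
      | smul a w _ hw => rw [LinearMap.smul_apply, hw, smul_zero]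
    refine eF.injective (funext fun j => ?_)
    have h := hall (eP.symm.toLinearMap ∘ₗ (LinearMap.proj j : (Fin r → R) →ₗ[R] R) ∘ₗ eF.toLinearMap)
    rw [map_zero, Pi.zero_apply]
    exact eP.symm.injective (h.trans (map_zero _).symm)
  refine ⟨hinj, (LinearMap.injective_iff_surjective_of_finrank_eq_finrank ?_).1 hinj⟩
  rw [eF.finrank_eq, (LinearEquiv.piCongrRight fun _ : Fin r => eP).finrank_eq]

theorem exists_simul_indep {K : Type u} [Field K] [Infinite K] {V : Type u} [AddCommGroup V] [Module K V]
    {ι : Type u} [Finite ι] {R : ι → Type u} [∀ i, CommRing (R i)] (hR : ∀ i, IsField (R i)) {W : ι → Type u}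
    [∀ i, AddCommGroup (W i)] [∀ i, Module (R i) (W i)] (g : ∀ i, V →+ W i)
    (hg : ∀ i, ∀ (c : K) v, ∃ a : R i, g i (c • v) = a • g i v) {r : ℕ}
    (hspan : ∀ i, Submodule.span (R i) (Set.range (g i)) = ⊤)
    (hlt : ∀ i, ∀ j < r, ∀ w : Fin j → W i, Submodule.span (R i) (Set.range w) ≠ ⊤) :
    ∀ j ≤ r, ∃ σ : Fin j → V, ∀ i, LinearIndependent (R i) fun l => g i (σ l) := by
  intro j
  induction j with
  | zero => exact fun _ => ⟨Fin.elim0, fun i => linearIndependent_empty_type⟩
  | succ j ih =>
    intro hj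
    obtain ⟨σ, hσ⟩ := ih (Nat.le_of_succ_le hj)
    let S := fun i => Submodule.span (R i) (Set.range fun l => g i (σ l))
    let p : ι → Submodule K V := fun i =>
      { carrier := {v | g i v ∈ S i}
        add_mem' := fun {a b} ha hb => by
          show g i (a + b) ∈ S i
          rw [map_add]; exact add_mem ha hb
        zero_mem' := by
          show g i 0 ∈ S i
          rw [map_zero]; exact zero_mem _
        smul_mem' := fun c v hv => by
          show g i (c • v) ∈ S i
          obtain ⟨a, ha⟩ := hg i c v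
          rw [ha]; exact Submodule.smul_mem _ _ hv }
    have hp : ∀ i, p i ≠ ⊤ := fun i h => hlt i j hj (fun l => g i (σ l)) <| by
      refine eq_top_iff.2 ((hspan i).ge.trans (Submodule.span_le.2 ?_))
      rintro _ ⟨v, rfl⟩
      exact (show v ∈ p i from h ▸ trivial)
    obtain ⟨v, hv⟩ := Submodule.exists_forall_notMem_of_forall_ne_top p hp
    let τ : Fin (j + 1) → V := Fin.snoc σ v
    refine ⟨τ, fun i => ?_⟩
    letI := (hR i).toField
    have h : (fun l => g i (τ l)) = Fin.snoc (fun l => g i (σ l)) (g i v) := by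
      rw [← Function.comp_def (g i) τ, Fin.comp_snoc]
      rfl
    rw [h, linearIndependent_finSnoc]
    exact ⟨hσ i, hv i⟩

end Alg

variable {X : Scheme.{u}}

theorem stalkLin_sum_hom {M N : X.Modules} {κ : Type*} (t : Finset κ) (f : κ → (M ⟶ N)) (y : X)
    (w : M.presheaf.stalk y) : stalkLin (∑ i ∈ t, f i) y w = ∑ i ∈ t, stalkLin (f i) y w :=
  map_sum (AddMonoidHom.mk' (fun g : M ⟶ N => stalkLin g y w) fun g g' => by
    obtain ⟨U, hy, m, rfl⟩ := TopCat.Presheaf.exists_germ_eq M.presheaf w
    rw [stalkLin_germ, stalkLin_germ, stalkLin_germ, ← map_add]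
    rfl) f t

theorem stalkLin_id_hom {M : X.Modules} (y : X) (w : M.presheaf.stalk y) : stalkLin (𝟙 M) y w = w := by
  obtain ⟨U, hy, m, rfl⟩ := TopCat.Presheaf.exists_germ_eq M.presheaf w
  rw [stalkLin_germ]
  rfl

section Points

theorem genPts_of_isField {η : X} (h : IsField (X.presheaf.stalk η)) : η ∈ genPts X := by
  refine GenPtLib.closure_mem_irreducibleComponents fun z hz => ?_
  have h0 : ringKrullDim (X.presheaf.stalk η) = 0 := ringKrullDim_eq_zero_of_isField h
  rw [ringKrullDim_stalk_eq_coheight] at h0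
  have hmax : IsMax η := Order.coheight_eq_zero.1 (by exact_mod_cast h0)
  exact (hz.antisymm (hmax hz)).eq

theorem finite_genPts [IsNoetherian X] : (genPts X).Finite := by
  refine Set.Finite.of_injOn (f := fun η => closure ({η} : Set X)) (fun η hη => hη) (fun a _ b _ e => ?_)
    (NoetherianSpace.finite_irreducibleComponents (α := X))
  exact (isGenericPoint_closure (x := a)).eq (show IsGenericPoint b (closure {a}) from e.symm)

theorem not_isField_of_isClosed [IsNoetherian X] [ConnectedSpace X] (hdim : topologicalKrullDim X = 1) {x : X}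
    (hx : IsClosed ({x} : Set X)) : ¬ IsField (X.presheaf.stalk x) := fun h => by
  have h1 := TFNodeLib.comps_one hdim _ (show closure ({x} : Set X) ∈ irreducibleComponents (X : Type u) from
    genPts_of_isField h)
  rw [hx.closure_eq] at h1
  haveI : Subsingleton ({x} : Set X) := Set.subsingleton_coe _ |>.2 Set.subsingleton_singleton
  have h0 : topologicalKrullDim ({x} : Set X) ≤ 0 := by
    haveI : Subsingleton (IrreducibleCloseds ({x} : Set X)) := ⟨fun a b => IrreducibleCloseds.ext (by
      obtain ⟨p, hp⟩ := a.isIrreducible.nonempty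
      obtain ⟨q, hq⟩ := b.isIrreducible.nonempty
      ext w
      exact ⟨fun _ => Subsingleton.elim q w ▸ hq, fun _ => Subsingleton.elim p w ▸ hp⟩)⟩
    exact Order.krullDim_nonpos_of_subsingleton
  rw [h1] at h0
  exact absurd h0 (by decide)

theorem isField_of_specializes [IsReduced X] (hdim : topologicalKrullDim X = 1) {y x : X}
    (h : y ⤳ x) (hne : y ≠ x) : IsField (X.presheaf.stalk y) := by
  obtain ⟨ξ, hξy, hξ⟩ := GenPtLib.exists_maximal y
  have hξ' : ξ = y := by_contra fun hn =>
    hne ((S7835.isClosed_singleton_of_lt hdim hξy hn).closure_eq.le (specializes_iff_mem_closure.1 h)).symm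
  subst hξ'
  exact ProjSerreLib.isField_stalk_of_component (GenPtLib.closure_mem_irreducibleComponents hξ)

/-- The point of a prime of a local ring. -/
theorem exists_pt (x : X) (p : Ideal (X.presheaf.stalk x)) [p.IsPrime] :
    ∃ (y : X) (h : y ⤳ x), (maximalIdeal (X.presheaf.stalk y)).comap (X.presheaf.stalkSpecializes h).hom = p := by
  let q : Spec (X.presheaf.stalk x) := ⟨p, inferInstance⟩
  have h : X.fromSpecStalk x q ⤳ x := by
    have : X.fromSpecStalk x q ∈ Set.range (X.fromSpecStalk x) := ⟨q, rfl⟩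
    rwa [Scheme.range_fromSpecStalk] at this
  refine ⟨_, h, ?_⟩
  have h1 := congrArg (fun f => f (closedPoint (X.presheaf.stalk (X.fromSpecStalk x q))))
    (Scheme.SpecMap_stalkSpecializes_fromSpecStalk h)
  simp only [Scheme.Hom.comp_apply, Scheme.fromSpecStalk_closedPoint] at h1
  exact congrArg PrimeSpectrum.asIdeal ((X.fromSpecStalk x).isEmbedding.injective h1)

/-- A section vanishing at all generic points of a module without closed associated points vanishes. -/
theorem eq_zero_of_generic [IsLocallyNoetherian X] [IsReduced X] (hdim : topologicalKrullDim X = 1)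
    (M : X.Modules) [Coh.IsQCoh M] {x : X} (hA : IsClosed ({x} : Set X) → ¬ Curv2.IsAssPoint M x)
    (z : M.presheaf.stalk x)
    (hz : ∀ (y : X) (h : y ⤳ x), IsField (X.presheaf.stalk y) → M.presheaf.stalkSpecializes h z = 0) : z = 0 := by
  by_contra hne
  obtain ⟨p, hp, hle⟩ := exists_le_isAssociatedPrime_of_isNoetherianRing (X.presheaf.stalk x) z hne
  haveI := hp.1
  obtain ⟨y, hyx, hcomap⟩ := exists_pt x p
  have hfield : IsField (X.presheaf.stalk y) := by
    by_contra hyf
    have hy : y = x := by_contra fun hn => hyf (isField_of_specializes hdim hyx hn)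
    subst hy
    have hpm : p = maximalIdeal (X.presheaf.stalk y) := by
      rw [← hcomap, show (X.presheaf.stalkSpecializes hyx) = 𝟙 _ from TopCat.Presheaf.stalkSpecializes_refl _ _]
      rfl
    refine hA ?_ ((show IsAssociatedPrime (maximalIdeal (X.presheaf.stalk y)) _ from by rw [← hpm]; exact hp))
    obtain ⟨ξ, hξ, hmax⟩ := GenPtLib.exists_maximal y
    refine S7835.isClosed_singleton_of_lt hdim hξ fun hn => hyf ?_
    exact hn ▸ ProjSerreLib.isField_stalk_of_component (GenPtLib.closure_mem_irreducibleComponents hmax)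
  obtain ⟨a, ha, haz⟩ := exists_spec_kill M hyx z (hz y hyx hfield)
  have hap : a ∈ p := hle (Submodule.mem_colon_singleton.2 ((Submodule.mem_bot _).2 haz))
  rw [← hcomap] at hap
  exact hap ha

end Points

section Sums

variable {r : ℕ} (P : X.Modules)

/-- The projections of a finite sum. -/
def prj (i : Fin r) : (∐ fun _ : Fin r => P) ⟶ P := Sigma.desc fun j => if j = i then 𝟙 P else 0

theorem ι_prj (i j : Fin r) : Sigma.ι (fun _ : Fin r => P) j ≫ prj P i = if j = i then 𝟙 P else 0 :=
  Sigma.ι_desc _ _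

theorem sum_prj_ι : ∑ i : Fin r, prj P i ≫ Sigma.ι (fun _ : Fin r => P) i = 𝟙 _ := by
  refine Sigma.hom_ext _ _ fun j => ?_
  rw [Preadditive.comp_sum, Category.comp_id, Finset.sum_eq_single j]
  · rw [← Category.assoc, ι_prj, if_pos rfl, Category.id_comp]
  · intro i _ hi
    rw [← Category.assoc, ι_prj, if_neg (Ne.symm hi), zero_comp]
  · simp

/-- The stalk of a finite sum. -/
def sumStalk (x : X) : (∐ fun _ : Fin r => P).presheaf.stalk x ≃ₗ[X.presheaf.stalk x] (Fin r → P.presheaf.stalk x) :=
  LinearEquiv.ofLinear (LinearMap.pi fun i => stalkLin (prj P i) x)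
    (∑ i : Fin r, (stalkLin (Sigma.ι (fun _ : Fin r => P) i) x).comp (LinearMap.proj i))
    (LinearMap.ext fun v => funext fun i => by
      simp only [LinearMap.comp_apply, LinearMap.pi_apply, LinearMap.sum_apply, LinearMap.proj_apply, map_sum,
        LinearMap.id_apply]
      rw [Finset.sum_eq_single i]
      · rw [← LinearMap.comp_apply, ← stalkLin_comp, ι_prj, if_pos rfl, stalkLin_id_hom]
      · intro j _ hj
        rw [← LinearMap.comp_apply, ← stalkLin_comp, ι_prj, if_neg hj, (eq_zero_iff_stalk _).1 rfl x,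
          LinearMap.zero_apply]
      · simp)
    (LinearMap.ext fun w => by
      simp only [LinearMap.comp_apply, LinearMap.pi_apply, LinearMap.sum_apply, LinearMap.proj_apply,
        LinearMap.id_apply]
      refine Eq.trans ?_ ((congrArg (fun f => stalkLin f x w) (sum_prj_ι P)).trans (stalkLin_id_hom x w))
      rw [stalkLin_sum_hom]
      exact Finset.sum_congr rfl fun i _ => by rw [stalkLin_comp, LinearMap.comp_apply])

theorem sumStalk_apply (x : X) (w : (∐ fun _ : Fin r => P).presheaf.stalk x) (i : Fin r) :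
    sumStalk P x w i = stalkLin (prj P i) x w := rfl

end Sums

section Contraction

variable (F P : X.Modules)

/-- Contraction of the stalks of `F^∨ ⊗ P` with `F`. -/
def contr (x : X) : (tmod ((hF F).obj (Coh.structureModule X)) P).presheaf.stalk x →ₗ[X.presheaf.stalk x]
    (F.presheaf.stalk x →ₗ[X.presheaf.stalk x] P.presheaf.stalk x) :=
  (TensorProduct.lift (LinearMap.smulRightₗ.comp
    ((LinearMap.compRight (X.presheaf.stalk x) (RefOne.oEquiv x).symm.toLinearMap).comp
      (theta F (Coh.structureModule X) x)))).comp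
    (stalkTensor x ((hF F).obj (Coh.structureModule X)) P).symm.toLinearMap

theorem contr_tmul (x : X) (a : ((hF F).obj (Coh.structureModule X)).presheaf.stalk x) (b : P.presheaf.stalk x)
    (z : F.presheaf.stalk x) :
    contr F P x (stalkTensor x _ P (a ⊗ₜ b)) z =
      (RefOne.oEquiv x).symm (theta F (Coh.structureModule X) x a z) • b := by
  simp [contr, LinearMap.smulRightₗ, LinearMap.compRight]

theorem contr_pairS {V : X.Opens} {y : X} (hy : y ∈ V) (a : Γ((hF F).obj (Coh.structureModule X), V))
    (b : Γ(P, V)) (s : Γ(F, V)) :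
    contr F P y ((tmod ((hF F).obj (Coh.structureModule X)) P).presheaf.germ V y hy (pairS _ P a b))
        (F.presheaf.germ V y hy s) =
      P.presheaf.germ V y hy ((id (evS F (Coh.structureModule X) a s) : Γ(X, V)) • b) := by
  have h : stalkTensor y _ P (((hF F).obj (Coh.structureModule X)).presheaf.germ V y hy a ⊗ₜ P.presheaf.germ V y hy b) =
      (tmod ((hF F).obj (Coh.structureModule X)) P).presheaf.germ V y hy (pairS _ P a b) :=
    stalkTensorHom_tmul y hy a b
  rw [← h, contr_tmul, theta_germ, germ_smul']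
  congr 1
  refine (RefOne.oEquiv y).injective ?_
  rw [LinearEquiv.apply_symm_apply]
  show (Coh.structureModule X).presheaf.germ V y hy _ =
    X.presheaf.germ V y hy (evS F (Coh.structureModule X) a s) • ParaFLib.oneG y
  have h1 : ParaFLib.oneG y = (Coh.structureModule X).presheaf.germ V y hy (1 : Γ(X, V)) := by
    rw [ParaFLib.oneG, ← (Coh.structureModule X).presheaf.germ_res_apply (homOfLE (le_top : V ≤ ⊤)) y hy]
    exact congrArg _ (map_one (X.presheaf.map (homOfLE (le_top : V ≤ ⊤)).op).hom)
  rw [h1, ← germ_smul']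
  exact congrArg _ (ParaFLib.smul_one_eq _).symm

theorem exists_local (x : X) (U : X.Opens) (hx : x ∈ U) (s : Γ(F, U))
    (w : (tmod ((hF F).obj (Coh.structureModule X)) P).presheaf.stalk x) :
    ∃ (V : X.Opens) (i : V ≤ U) (hxV : x ∈ V) (τ : Γ(tmod ((hF F).obj (Coh.structureModule X)) P, V))
      (g : Γ(P, V)), (tmod ((hF F).obj (Coh.structureModule X)) P).presheaf.germ V x hxV τ = w ∧
      ∀ (y : X) (hy : y ∈ V), contr F P y
        ((tmod ((hF F).obj (Coh.structureModule X)) P).presheaf.germ V y hy τ)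
          (F.presheaf.germ U y (i hy) s) = P.presheaf.germ V y hy g := by
  obtain ⟨w, rfl⟩ := (stalkTensor x ((hF F).obj (Coh.structureModule X)) P).surjective w
  induction w using TensorProduct.induction_on with
  | zero => exact ⟨U, le_rfl, hx, 0, 0, by simp, fun y hy => by simp⟩
  | tmul a b =>
    obtain ⟨Va, hxa, a, rfl⟩ := TopCat.Presheaf.exists_germ_eq ((hF F).obj (Coh.structureModule X)).presheaf a
    obtain ⟨Vb, hxb, b, rfl⟩ := TopCat.Presheaf.exists_germ_eq P.presheaf b
    let V : X.Opens := U ⊓ (Va ⊓ Vb)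
    let a' := ((hF F).obj (Coh.structureModule X)).presheaf.map (homOfLE (inf_le_right.trans inf_le_left : V ≤ Va)).op a
    let b' := P.presheaf.map (homOfLE (inf_le_right.trans inf_le_right : V ≤ Vb)).op b
    let s' := F.presheaf.map (homOfLE (inf_le_left : V ≤ U)).op s
    refine ⟨V, inf_le_left, ⟨hx, hxa, hxb⟩, pairS _ P a' b',
      (id (evS F (Coh.structureModule X) a' s') : Γ(X, V)) • b', ?_, fun y hy => ?_⟩
    · rw [← stalkTensorHom_tmul x (show x ∈ V from ⟨hx, hxa, hxb⟩) a' b']
      rw [TopCat.Presheaf.germ_res_apply, TopCat.Presheaf.germ_res_apply]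
      rfl
    · have hs : F.presheaf.germ V y hy s' = F.presheaf.germ U y hy.1 s := TopCat.Presheaf.germ_res_apply _ _ _ _ _
      rw [← hs]
      exact contr_pairS F P hy a' b' s'
  | add p q hp hq =>
    obtain ⟨V, i, hxV, τ, g, hτ, hg⟩ := hp
    obtain ⟨V', i', hxV', τ', g', hτ', hg'⟩ := hq
    refine ⟨V ⊓ V', inf_le_left.trans i, ⟨hxV, hxV'⟩,
      (tmod ((hF F).obj (Coh.structureModule X)) P).presheaf.map (homOfLE (inf_le_left : V ⊓ V' ≤ V)).op τ +
        (tmod ((hF F).obj (Coh.structureModule X)) P).presheaf.map (homOfLE (inf_le_right : V ⊓ V' ≤ V')).op τ',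
      P.presheaf.map (homOfLE (inf_le_left : V ⊓ V' ≤ V)).op g +
        P.presheaf.map (homOfLE (inf_le_right : V ⊓ V' ≤ V')).op g', ?_, fun y hy => ?_⟩
    · rw [map_add, map_add, TopCat.Presheaf.germ_res_apply, TopCat.Presheaf.germ_res_apply, hτ, hτ']
    · rw [map_add, map_add, LinearMap.add_apply, map_add, TopCat.Presheaf.germ_res_apply,
        TopCat.Presheaf.germ_res_apply, TopCat.Presheaf.germ_res_apply, TopCat.Presheaf.germ_res_apply,
        hg y hy.1, hg' y hy.2]

/-- A global section of `F^∨ ⊗ P` as a map `F ⟶ P`. -/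
theorem exists_contrHom (σ : Γ(tmod ((hF F).obj (Coh.structureModule X)) P, ⊤)) :
    ∃ u : F ⟶ P, ∀ x : X, stalkLin u x =
      contr F P x ((tmod ((hF F).obj (Coh.structureModule X)) P).presheaf.germ ⊤ x trivial σ) := by
  obtain ⟨u, hu⟩ := EtAlgEasy.PrinPartStalkMod.exists_hom_of_stalk (M := F) (G := P)
    (fun x => contr F P x ((tmod ((hF F).obj (Coh.structureModule X)) P).presheaf.germ ⊤ x trivial σ))
    (fun U m x hx => by
      obtain ⟨V, i, hxV, τ, g, hτ, hg⟩ := exists_local F P x U hx m
        ((tmod ((hF F).obj (Coh.structureModule X)) P).presheaf.germ ⊤ x trivial σ)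
      obtain ⟨W, hxW, iV, iT, heq⟩ := TopCat.Presheaf.germ_eq _ (V := ⊤) x hxV trivial τ σ hτ
      refine ⟨W, iV.le.trans i, hxW, P.presheaf.map iV.op g, fun y hy => ?_⟩
      rw [TopCat.Presheaf.germ_res_apply, ← hg y (iV.le hy)]
      have h2 := congrArg ((tmod ((hF F).obj (Coh.structureModule X)) P).presheaf.germ W y hy) heq
      rw [TopCat.Presheaf.germ_res_apply, TopCat.Presheaf.germ_res_apply] at h2
      exact (congrArg (fun w => contr F P y w (F.presheaf.germ U y (i (iV.le hy)) m)) h2).symm)
  refine ⟨u, fun x => LinearMap.ext fun z => ?_⟩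
  obtain ⟨U, hx, m, rfl⟩ := TopCat.Presheaf.exists_germ_eq F.presheaf z
  exact (stalkLin_germ _ _ _ _).trans (hu U m x hx)

theorem contr_surjective [IsLocallyNoetherian X] (hFc : Coh.IsCoh F) (hP : PicF.IsInvertible P) (x : X) :
    Function.Surjective (contr F P x) := by
  intro φ
  obtain ⟨e⟩ := CurveLib.freeAt_one_of_isInvertible hP x
  let e1 := e ≪≫ₗ LinearEquiv.funUnique (Fin 1) _ _
  obtain ⟨a, ha⟩ := (theta_bijective F x hFc (Coh.structureModule X)).2
    ((RefOne.oEquiv x).toLinearMap ∘ₗ e1.toLinearMap ∘ₗ φ)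
  refine ⟨stalkTensor x _ P (a ⊗ₜ e1.symm 1), LinearMap.ext fun z => ?_⟩
  rw [contr_tmul, ha]
  simp only [LinearMap.comp_apply, LinearEquiv.coe_coe, LinearEquiv.symm_apply_apply]
  rw [← map_smul, smul_eq_mul, mul_one, LinearEquiv.symm_apply_apply]

end Contraction

section Main

/-- A coherent module free of rank `r` at the generic points maps to `P^r` bijectively there. -/
theorem exists_sum_map (k : Type u) [Field k] [Infinite k] [X.Over (Spec (CommRingCat.of k))] [IsNoetherian X]
    {F : X.Modules} (hFc : Coh.IsCoh F) {P : X.Modules} (hP : PicF.IsInvertible P) {r : ℕ}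
    (hgg : Curv2.IsGloballyGenerated (tmod ((hF F).obj (Coh.structureModule X)) P))
    (hrk : ∀ η : X, IsField (X.presheaf.stalk η) →
      Nonempty (F.presheaf.stalk η ≃ₗ[X.presheaf.stalk η] (Fin r → X.presheaf.stalk η))) :
    ∃ ι : F ⟶ ∐ fun _ : Fin r => P, ∀ η : X, IsField (X.presheaf.stalk η) →
      Function.Bijective (stalkLin ι η) := by
  classical
  let M := tmod ((hF F).obj (Coh.structureModule X)) P
  let J := {η : X // IsField (X.presheaf.stalk η)}
  haveI : Finite J := (finite_genPts.subset fun η h => genPts_of_isField h).to_subtype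
  let ρ : k →+* Γ(X, ⊤) :=
    ((Scheme.ΓSpecIso (CommRingCat.of k)).inv ≫ (X ↘ Spec (CommRingCat.of k)).appTop).hom
  letI : Module k Γ(M, ⊤) := Module.compHom _ ρ
  let g : ∀ η : J, Γ(M, ⊤) →+ (F.presheaf.stalk η.1 →ₗ[X.presheaf.stalk η.1] P.presheaf.stalk η.1) := fun η =>
    (contr F P η.1).toAddMonoidHom.comp (M.presheaf.germ ⊤ η.1 trivial).hom
  have hP1 : ∀ η : X, Nonempty (P.presheaf.stalk η ≃ₗ[X.presheaf.stalk η] X.presheaf.stalk η) := fun η =>
    (CurveLib.freeAt_one_of_isInvertible hP η).map fun e => e ≪≫ₗ LinearEquiv.funUnique (Fin 1) _ _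
  obtain ⟨σ, hσ⟩ := exists_simul_indep (K := k) (R := fun η : J => X.presheaf.stalk η.1) (fun η => η.2) g
    (fun η c v => ⟨X.presheaf.germ ⊤ η.1 trivial (ρ c), by
      show contr F P η.1 (M.presheaf.germ ⊤ η.1 trivial (ρ c • v)) = _
      rw [germ_smul', map_smul]
      rfl⟩) (r := r)
    (fun η => by
      rw [show (g η : Γ(M, ⊤) → _) = contr F P η.1 ∘ (fun s => M.presheaf.germ ⊤ η.1 trivial s) from rfl,
        Set.range_comp, ← Submodule.map_span, ProjBundleLib.span_germ_of_isGloballyGenerated hgg,
        Submodule.map_top, LinearMap.range_eq_top.2 (contr_surjective F P hFc hP η.1)])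
    (fun η j hj w => (hrk η.1 η.2).elim fun eF => (hP1 η.1).elim fun eP => span_lt_top η.2 eF eP hj w) r le_rfl
  choose u hu using fun l => exists_contrHom F P (σ l)
  refine ⟨∑ l, u l ≫ Sigma.ι (fun _ : Fin r => P) l, fun η hη => ?_⟩
  obtain ⟨eF⟩ := hrk η hη
  obtain ⟨eP⟩ := hP1 η
  have hb := bijective_pi hη eF eP (hσ ⟨η, hη⟩)
  refine (Function.Bijective.of_comp_iff' (sumStalk P η).bijective _).1 ?_
  refine (congrArg Function.Bijective (funext fun z => funext fun i => ?_)).mpr hb
  show sumStalk P η (stalkLin (∑ l, u l ≫ Sigma.ι (fun _ : Fin r => P) l) η z) i =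
    contr F P η (M.presheaf.germ ⊤ η trivial (σ i)) z
  rw [sumStalk_apply, ← hu i η, ← LinearMap.comp_apply, ← stalkLin_comp, Preadditive.sum_comp,
    Finset.sum_eq_single i]
  · rw [Category.assoc, ι_prj, if_pos rfl, Category.comp_id]
  · intro j _ hj
    rw [Category.assoc, ι_prj, if_neg hj, comp_zero]
  · simp

end Main

end Groth.Agent.TFInterpNodeLib
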