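import Groth.Agent.TFInterpNodeLib.DepthOne
import Groth.Agent.S14104
import Groth.Agent.S1575
import Groth.Agent.FlatDepth.Fibres
import Groth.Agent.RegLocal.Basic
import Groth.Agent.NodePtLib.Geom
import Groth.Agent.AVExtLib.Extend

/-!
# Depth two of pullbacks of torsion free modules to the product with a curve
-/

set_option autoImplicit false
set_option backward.isDefEq.respectTransparency false
set_option linter.style.haveILetI false
set_option maxHeartbeats 1600000

universe u

open CategoryTheory CategoryTheory.Limits AlgebraicGeometry TopologicalSpace Opposite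
open IsLocalRing Groth.Agent.PullbackMod Groth.Agent.DCohLib
open scoped TensorProduct

noncomputable section

namespace Groth.Agent.TFInterpNodeLib

theorem socleZero_self {R : Type u} [CommRing R] [IsLocalRing R] [_root_.IsReduced R] (h : ¬ IsField R) :
    CAlgBasics.SocleZero R R := fun c hc => by
  by_contra hne
  by_cases hu : IsUnit c
  · refine h (IsLocalRing.isField_iff_maximalIdeal_eq.2 ((Submodule.eq_bot_iff _).2 fun a ha => ?_))
    exact hu.mul_left_eq_zero.1 (hc a ha)
  · exact hne (IsNilpotent.eq_zero ⟨2, by rw [pow_two]; exact hc c hu⟩)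

theorem socleZero_of_isTorsionFree {R : Type u} [CommRing R] [IsLocalRing R] [IsNoetherianRing R]
    [_root_.IsReduced R] (h : ¬ IsField R) (M : Type u) [AddCommGroup M] [Module R M] [Module.IsTorsionFree R M] :
    CAlgBasics.SocleZero R M := fun c hc => by
  obtain ⟨a, ha, hreg⟩ := (socleZero_self h).exists_isSMulRegular
  have hr : IsRegular a := isRegular_iff_mem_nonZeroDivisors.2 (mem_nonZeroDivisors_iff_right.2 fun z hz =>
    hreg ((mul_comm a z).trans (hz.trans (mul_zero a).symm)))
  exact Module.IsTorsionFree.isSMulRegular hr ((hc a ha).trans (smul_zero a).symm)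

theorem not_isField_of_not_isOpen {X : Scheme.{u}} [IsNoetherian X] [AlgebraicGeometry.IsReduced X] {x : X}
    (hx : IsClosed ({x} : Set X)) (ho : ¬ IsOpen ({x} : Set X)) : ¬ IsField (X.presheaf.stalk x) := fun h => by
  have hcomp : ({x} : Set X) ∈ irreducibleComponents (X : Type u) := by
    rw [← hx.closure_eq]; exact genPts_of_isField h
  refine ho ?_
  rw [← isClosed_compl_iff]
  have e : ({x} : Set X)ᶜ = ⋃ Z ∈ irreducibleComponents (X : Type u) \ {{x}}, Z := by
    ext w
    simp only [Set.mem_compl_iff, Set.mem_singleton_iff, Set.mem_iUnion, Set.mem_sdiff, exists_prop]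
    constructor
    · intro hw
      obtain ⟨Z, hZ, hwZ⟩ := exists_mem_irreducibleComponents_subset_of_isIrreducible {w} isIrreducible_singleton
      refine ⟨Z, ⟨hZ, fun he => hw ?_⟩, hwZ rfl⟩
      have := hwZ rfl
      rwa [he] at this
    · rintro ⟨Z, ⟨hZ, hne⟩, hwZ⟩ rfl
      exact hne (subset_antisymm (hcomp.2 hZ.1 (Set.singleton_subset_iff.2 hwZ)) (Set.singleton_subset_iff.2 hwZ))
  rw [e]
  exact ((NoetherianSpace.finite_irreducibleComponents (α := X)).subset Set.sdiff_subset).isClosed_biUnion
    fun Z hZ => isClosed_of_mem_irreducibleComponents Z hZ.1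

variable (k : Type u) [Field k] [IsAlgClosed k]

theorem one_le_depth_curve (C : Scheme.{u}) [C.Over (Spec (CommRingCat.of k))] [Smooth (C ↘ Spec (CommRingCat.of k))]
    [IrreducibleSpace C] (hdimC : topologicalKrullDim C = 1) {c : C} (hc : IsClosed ({c} : Set C)) :
    1 ≤ LocCoh.depth (C.presheaf.stalk c) (C.presheaf.stalk c) := by
  haveI : IsLocallyNoetherian C := LocallyOfFiniteType.isLocallyNoetherian (C ↘ Spec (CommRingCat.of k))
  haveI := AVExtLib.isRegularLocalRing_stalk (C ↘ Spec (CommRingCat.of k)) c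
  haveI : IsDomain (C.presheaf.stalk c) := RegLocal.isDomain _
  rw [CAlgBasics.one_le_depth_iff]
  refine socleZero_self fun h => ?_
  have h1 := genPts_of_isField h
  rw [genPts, Set.mem_setOf_eq, hc.closure_eq, irreducibleComponents_eq_singleton, Set.mem_singleton_iff] at h1
  haveI : Subsingleton C := ⟨fun a b => (h1.ge (Set.mem_univ a) : a = c).trans (h1.ge (Set.mem_univ b) : b = c).symm⟩
  haveI : Subsingleton (IrreducibleCloseds C) := ⟨fun a b => IrreducibleCloseds.ext (by
      obtain ⟨p, hp⟩ := a.isIrreducible.nonempty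
      obtain ⟨q, hq⟩ := b.isIrreducible.nonempty
      ext w
      exact ⟨fun _ => Subsingleton.elim q w ▸ hq, fun _ => Subsingleton.elim p w ▸ hp⟩)⟩
  have h0 : topologicalKrullDim C ≤ 0 := Order.krullDim_nonpos_of_subsingleton
  rw [hdimC] at h0
  exact absurd h0 (by decide)

variable (X C : Scheme.{u}) [X.Over (Spec (CommRingCat.of k))] [C.Over (Spec (CommRingCat.of k))]

/-- The product. -/
abbrev prodX : Scheme.{u} := pullback (X ↘ Spec (CommRingCat.of k)) (C ↘ Spec (CommRingCat.of k))

theorem one_le_depth_fiber [LocallyOfFiniteType (X ↘ Spec (CommRingCat.of k))] [Smooth (C ↘ Spec (CommRingCat.of k))]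
    [IrreducibleSpace C] (hdimC : topologicalKrullDim C = 1) (z : ↥(prodX k X C))
    (hx : IsClosed ({pullback.fst (X ↘ Spec (CommRingCat.of k)) (C ↘ Spec (CommRingCat.of k)) z} : Set X))
    (hc : IsClosed ({pullback.snd (X ↘ Spec (CommRingCat.of k)) (C ↘ Spec (CommRingCat.of k)) z} : Set C)) :
    1 ≤ LocCoh.depth
      ↑(CInt.fiberStalk (pullback.fst (X ↘ Spec (CommRingCat.of k)) (C ↘ Spec (CommRingCat.of k))) z)
      ↑(CInt.fiberStalk (pullback.fst (X ↘ Spec (CommRingCat.of k)) (C ↘ Spec (CommRingCat.of k))) z) := by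
  let a := X ↘ Spec (CommRingCat.of k)
  let b := C ↘ Spec (CommRingCat.of k)
  let f := pullback.fst a b
  haveI := NodePtLib.isIso_fromSpecResidueField (K := k) hx
  let e : f.fiber (f z) ≅ C := pullbackSymmetry _ _ ≪≫
    pullbackRightPullbackFstIso a b (X.fromSpecResidueField (f z)) ≪≫ asIso (pullback.snd _ b)
  have he : e.hom = f.fiberι (f z) ≫ pullback.snd a b := by
    simp only [e, Iso.trans_hom, asIso_hom, Category.assoc, pullbackRightPullbackFstIso_hom_snd]
    rw [← Category.assoc, pullbackSymmetry_hom_comp_snd]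
    rfl
  have hpt : e.hom (f.asFiber z) = pullback.snd a b z := by
    rw [he, Scheme.Hom.comp_apply, Scheme.Hom.fiberι_asFiber]
  haveI : IsLocallyNoetherian C := LocallyOfFiniteType.isLocallyNoetherian b
  let σ : C.presheaf.stalk (e.hom (f.asFiber z)) ≃+* CInt.fiberStalk f z :=
    (asIso (e.hom.stalkMap (f.asFiber z))).commRingCatIsoToRingEquiv
  haveI : IsNoetherianRing (CInt.fiberStalk f z) := isNoetherianRing_of_ringEquiv _ σ
  exact le_of_le_of_eq (one_le_depth_curve k C hdimC (hpt ▸ hc)) (FlatDepth.depth_eq_of_ringEquiv σ).symm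

theorem two_le_depth_pullback [IsNoetherian X] [AlgebraicGeometry.IsReduced X]
    [LocallyOfFiniteType (X ↘ Spec (CommRingCat.of k))]
    (hpure : ∀ x : X, IsClosed ({x} : Set X) → ¬ IsOpen ({x} : Set X)) [Smooth (C ↘ Spec (CommRingCat.of k))]
    [IrreducibleSpace C] (hdimC : topologicalKrullDim C = 1) {F : X.Modules} (hF : Coh.IsCoh F)
    (htF : TorSh.IsTorsionFree F) (z : ↥(prodX k X C)) (hz : IsClosed ({z} : Set ↥(prodX k X C))) :
    2 ≤ LocCoh.depth ((prodX k X C).presheaf.stalk z)
      (((Scheme.Modules.pullback (pullback.fst (X ↘ Spec (CommRingCat.of k)) (C ↘ Spec (CommRingCat.of k)))).obj F).presheaf.stalk z) := by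
  let a := X ↘ Spec (CommRingCat.of k)
  let b := C ↘ Spec (CommRingCat.of k)
  let f := pullback.fst a b
  haveI := hF.1
  haveI : JacobsonSpace X := LocallyOfFiniteType.jacobsonSpace a
  haveI : JacobsonSpace C := LocallyOfFiniteType.jacobsonSpace b
  have hx : IsClosed ({f z} : Set X) := f.closePoints_subset_preimage_closedPoints hz
  have hc : IsClosed ({pullback.snd a b z} : Set C) := (pullback.snd a b).closePoints_subset_preimage_closedPoints hz
  haveI : IsLocallyNoetherian (prodX k X C) := LocallyOfFiniteType.isLocallyNoetherian f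
  let A := X.presheaf.stalk (f z)
  let B := (prodX k X C).presheaf.stalk z
  letI : Algebra A B := (f.stalkMap z).hom.toAlgebra
  haveI : IsLocalHom (algebraMap A B) := inferInstanceAs (IsLocalHom (f.stalkMap z).hom)
  haveI : Module.Flat A B := Flat.stalkMap f z
  let M := ((Scheme.Modules.pullback f).obj F).presheaf.stalk z
  letI : Module A M := Module.compHom M (f.stalkMap z).hom
  haveI : IsScalarTower A B M := .of_algebraMap_smul fun _ _ => rfl
  have hb : IsBaseChange B (pullStalkL f F z) := isBaseChange_pullStalkL' f F z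
  let Φ : B ⊗[A] F.presheaf.stalk (f z) ≃ₗ[B] M := hb.equiv
  show 2 ≤ LocCoh.depth B M
  rw [← FlatDepth.depth_congr Φ]
  haveI := finite_stalk_of_isFT hF.2 (f z)
  rcases subsingleton_or_nontrivial (F.presheaf.stalk (f z)) with hs | hn
  · haveI : Subsingleton (B ⊗[A] F.presheaf.stalk (f z)) := inferInstance
    rw [CAlgBasics.depth_eq_top]; exact le_top
  · rw [FlatDepth.depth_tensor]
    have h1 : 1 ≤ LocCoh.depth A (F.presheaf.stalk (f z)) := by
      haveI := htF (f z)
      rw [CAlgBasics.one_le_depth_iff]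
      exact socleZero_of_isTorsionFree (not_isField_of_not_isOpen hx (hpure _ hx)) _
    have h2 : 1 ≤ LocCoh.depth B (FlatDepth.Fib A B B) := by
      have key : ∀ z' : ↥(prodX k X C), z' = z →
          1 ≤ @LocCoh.depth ((prodX k X C).presheaf.stalk z') _ _ ((prodX k X C).presheaf.stalk z' ⧸
            (((maximalIdeal (X.presheaf.stalk (f z'))).map (f.stalkMap z').hom) •
              ⊤ : Submodule ((prodX k X C).presheaf.stalk z') ((prodX k X C).presheaf.stalk z'))) _ _ →
          1 ≤ LocCoh.depth B (FlatDepth.Fib A B B) := by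
        rintro z' rfl h; exact h
      refine key (f.fiberι (f z) (f.asFiber z)) (f.fiberι_asFiber z) ?_
      let π := ((f.fiberι (f z)).stalkMap (f.asFiber z)).hom
      letI : Algebra ((prodX k X C).presheaf.stalk (f.fiberι (f z) (f.asFiber z))) (CInt.fiberStalk f z) := π.toAlgebra
      have hsurj : Function.Surjective π := FlatLocus.fiberι_stalkMap_surjective f _ _
      have hker : RingHom.ker π = (maximalIdeal (X.presheaf.stalk (f (f.fiberι (f z) (f.asFiber z))))).map
          (f.stalkMap (f.fiberι (f z) (f.asFiber z))).hom :=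
        FlatLocus.ker_fiberι_stalkMap f (f z) (f.asFiber z)
      haveI : IsNoetherianRing (CInt.fiberStalk f z) := isNoetherianRing_of_surjective _ _ π hsurj
      rw [FlatDepth.depth_congr ((Submodule.quotEquivOfEq _ (LinearMap.ker (Algebra.linearMap _ (CInt.fiberStalk f z)))
        (by rw [smul_eq_mul, Ideal.mul_top, ← hker]; rfl)).trans (LinearMap.quotKerEquivOfSurjective _ hsurj))]
      rw [FibreDepth.depth_of_surjective (O := (prodX k X C).presheaf.stalk (f.fiberι (f z) (f.asFiber z)))
        (R := CInt.fiberStalk f z) (X := CInt.fiberStalk f z) hsurj]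
      exact one_le_depth_fiber k X C hdimC z hx hc
    exact (one_add_one_eq_two (R := ℕ∞)).ge.trans (add_le_add h1 h2)

end Groth.Agent.TFInterpNodeLib
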