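import Groth.Agent.TFInterpNodeLib.Main
import Groth.Agent.RefOne.Divisor
import Groth.Agent.CurveP1Lib.PointIdeal
import Groth.Agent.CMRegLib.Res
import Groth.Agent.NodePtLib.Field
import Groth.Agent.DeltaBCLib.Genus
import Mathlib.Algebra.Category.ModuleCat.Biproducts

/-!
# Spreading out an isomorphism of stalks at a node
-/

set_option autoImplicit false
set_option backward.isDefEq.respectTransparency false
set_option linter.style.haveILetI false
set_option maxHeartbeats 1000000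

universe u

open CategoryTheory CategoryTheory.Limits AlgebraicGeometry TopologicalSpace Opposite
open IsLocalRing Groth.Agent.PullbackMod Groth.Agent.DCohLib

noncomputable section

namespace Groth.Agent.TFInterpNodeLib

variable {X : Scheme.{u}}

/-- Isomorphic stalks of coherent modules at a closed point give isomorphic restrictions. -/
theorem exists_iso_nhd [IsLocallyNoetherian X] {F N : X.Modules} (hF : Coh.IsCoh F) (hN : Coh.IsCoh N) {x : X}
    (hxc : IsClosed ({x} : Set X)) (e : F.presheaf.stalk x ≃ₗ[X.presheaf.stalk x] N.presheaf.stalk x)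
    {W₀ : X.Opens} (hW₀ : x ∈ W₀) :
    ∃ W : X.Opens, x ∈ W ∧ W ≤ W₀ ∧ Nonempty (F.restrict W.ι ≅ N.restrict W.ι) := by
  obtain ⟨G, i, hi, hib, ⟨W, hxW, hW, ⟨eW⟩⟩, ⟨q⟩⟩ := exists_step (F := F) (N := N) (G := F) hF hN (𝟙 F) hxc
    e.toLinearMap e.injective (fun a _ z => ⟨e.symm (a • z), e.apply_symm_apply _⟩) hW₀
    (fun y _ => (isIso_iff_stalk (𝟙 F)).1 inferInstance y)
  haveI : Subsingleton (N.presheaf.stalk x ⧸ LinearMap.range e.toLinearMap) :=
    Submodule.Quotient.subsingleton_iff.2 (LinearMap.range_eq_top.2 e.surjective)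
  have hs : Subsingleton (G.presheaf.stalk x ⧸ LinearMap.range (stalkLin (𝟙 F ≫ i) x)) := q.symm.toEquiv.subsingleton
  rw [Category.id_comp, Submodule.Quotient.subsingleton_iff, LinearMap.range_eq_top] at hs
  haveI := isIso_restrict_of_bijective i W fun y _ => by
    rcases eq_or_ne y x with rfl | hne
    · exact ⟨(mono_iff_stalk i).1 hi y, hs⟩
    · exact hib y hne
  exact ⟨W, hxW, hW, ⟨asIso ((Scheme.Modules.restrictFunctor W.ι).map i) ≪≫ eW⟩⟩

/-- Stalks of finite sums. -/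
theorem nonempty_stalk_sum {a b : ℕ} (f : Fin a → X.Modules) (g : Fin b → X.Modules) (x : X) :
    Nonempty (((∐ f) ⨿ (∐ g)).presheaf.stalk x ≃ₗ[X.presheaf.stalk x]
      ((∀ i, (f i).presheaf.stalk x) × (∀ j, (g j).presheaf.stalk x))) := by
  let Φ := stkF x
  haveI : PreservesColimitsOfSize.{0, 0} Φ := (stalkSkyAdj x).leftAdjoint_preservesColimits
  let e : ∀ {n : ℕ} (h : Fin n → X.Modules), Φ.obj (∐ h) ≅ ModuleCat.of _ (∀ i, (h i).presheaf.stalk x) := fun h =>
    PreservesCoproduct.iso Φ h ≪≫ (biproduct.isoCoproduct _).symm ≪≫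
      ModuleCat.biproductIsoPi fun i => Φ.obj (h i)
  exact ⟨((PreservesColimitPair.iso Φ _ _).symm ≪≫ (biprod.isoCoprod _ _).symm ≪≫ biprod.mapIso (e f) (e g) ≪≫
    ModuleCat.biprodIsoProd _ _).toLinearEquiv⟩

/-- The stalk of the ideal of a closed point. -/
theorem nonempty_stalk_pointIdeal {x : X} (hxc : IsClosed ({x} : Set X)) :
    Nonempty ((ClSub.idealMod (Scheme.IdealSheafData.vanishingIdeal (⟨{x}, hxc⟩ : Closeds X))).presheaf.stalk x
      ≃ₗ[X.presheaf.stalk x] maximalIdeal (X.presheaf.stalk x)) := by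
  let J := Scheme.IdealSheafData.vanishingIdeal (⟨{x}, hxc⟩ : Closeds X)
  obtain ⟨hinj, hr⟩ := RefOne.idealModι_stalk J x
  have hJ : IntMult.stalkIdeal J x = maximalIdeal (X.presheaf.stalk x) := by
    obtain ⟨W, hW, hxW, -⟩ := exists_isAffineOpen_mem_and_subset (x := x) (U := (⊤ : X.Opens)) trivial
    rw [IdealStalkLib.stalkIdeal_eq J ⟨W, hW⟩ x hxW]
    exact CurveP1Lib.map_vanishingIdeal_singleton hxc ⟨W, hW⟩ hxW
  let g := (RefOne.oEquiv x).symm.toLinearMap.comp (stalkLin (ClSub.idealModι J) x)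
  refine ⟨LinearEquiv.ofInjective g ((RefOne.oEquiv x).symm.injective.comp hinj) ≪≫ₗ LinearEquiv.ofEq _ _ ?_⟩
  ext r
  rw [← hJ, ← hr r]
  exact ⟨fun ⟨m, hm⟩ => ⟨m, by rw [← hm]; simp [g]⟩, fun ⟨m, hm⟩ => ⟨m, by simp [g, hm]⟩⟩

variable (k : Type u) [Field k] [X.Over (Spec (CommRingCat.of k))] [IsProper (X ↘ Spec (CommRingCat.of k))]

include k in
/-- The local normal form at a node, on a neighbourhood. -/
theorem exists_normal_form {F : X.Modules}
    (hF : Coh.IsCoh F) (x : X) (hxc : IsClosed ({x} : Set X))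
    {W₀ : X.Opens} (hxW : x ∈ W₀) (a b : ℕ)
    (hΦ : Nonempty (F.presheaf.stalk x ≃ₗ[X.presheaf.stalk x]
      ((Fin a → maximalIdeal (X.presheaf.stalk x)) × (Fin b → X.presheaf.stalk x)))) :
    ∃ W : X.Opens, x ∈ W ∧ W ≤ W₀ ∧ Nonempty (F.restrict W.ι ≅
      (∐ fun _ : Fin a =>
          (ClSub.idealMod (Scheme.IdealSheafData.vanishingIdeal (⟨{x}, hxc⟩ : Closeds X))).restrict W.ι) ⨿
        (∐ fun _ : Fin b => Coh.structureModule (↑W : Scheme.{u}))) := by
  haveI := EulerIneqLib.isNoetherian_proper (X := X) k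
  obtain ⟨Φ⟩ := hΦ
  let I := ClSub.idealMod (Scheme.IdealSheafData.vanishingIdeal (⟨{x}, hxc⟩ : Closeds X))
  obtain ⟨eI⟩ := nonempty_stalk_pointIdeal hxc
  let f : Fin a → X.Modules := fun _ => I
  let g : Fin b → X.Modules := fun _ => Coh.structureModule X
  obtain ⟨eS⟩ := nonempty_stalk_sum f g x
  let e : F.presheaf.stalk x ≃ₗ[X.presheaf.stalk x] ((∐ f) ⨿ (∐ g)).presheaf.stalk x :=
    Φ ≪≫ₗ ((LinearEquiv.piCongrRight fun _ => eI.symm).prodCongr
      (LinearEquiv.piCongrRight fun _ => RefOne.oEquiv x)) ≪≫ₗ eS.symm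
  have hN : Coh.IsCoh ((∐ f) ⨿ (∐ g)) := ProjCoh.isCoh_of_iso (biprod.isoCoprod _ _)
    (DevLib.isCoh_biprod (CMRegLib.isCoh_sigma_fin f fun _ => RefOne.isCoh_idealMod _)
      (CMRegLib.isCoh_sigma_fin g fun _ => DevLib.isCoh_structureModule X))
  obtain ⟨W, hxW', hW, ⟨eW⟩⟩ := exists_iso_nhd hF hN hxc e hxW
  let R := Scheme.Modules.restrictFunctor W.ι
  haveI : PreservesColimitsOfSize.{0, 0} R :=
    (Scheme.Modules.restrictAdjunction W.ι).leftAdjoint_preservesColimits
  exact ⟨W, hxW', hW, ⟨eW ≪≫ (PreservesColimitPair.iso R _ _).symm ≪≫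
    coprod.mapIso (PreservesCoproduct.iso R f)
      (PreservesCoproduct.iso R g ≪≫ Limits.Sigma.mapIso fun _ => Scheme.Modules.restrictUnitIso W.ι)⟩⟩

/-- The nodes of an at-worst-nodal curve are finite. -/
theorem finite_nodes (hequi : ∀ Z ∈ irreducibleComponents (X : Type u), topologicalKrullDim Z = 1)
    (hnod : Curv2.AtWorstNodal k X) [IsAlgClosed k] : {y : X | Curv2.IsNode k X y}.Finite := by
  haveI := EulerIneqLib.isNoetherian_proper (X := X) k
  haveI := NodePtLib.isReduced_of_atWorstNodal hequi hnod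
  let O : Set X := {y | ∃ V : X.Opens, y ∈ V ∧ Smooth (V.ι ≫ (X ↘ Spec (CommRingCat.of k)))}
  have hO : IsOpen O := isOpen_iff_forall_mem_open.2 fun y ⟨V, hy, hV⟩ => ⟨V, fun z hz => ⟨V, hz, hV⟩, V.2, hy⟩
  have hsub : {y : X | Curv2.IsNode k X y} = Oᶜ := by
    ext y
    constructor
    · intro hy hs
      have h1 := DeltaBC.deltaInv_node k hequi hy
      rw [DeltaBC.deltaInv_smooth k hequi hy.1 hs] at h1
      exact zero_ne_one h1
    · intro hy
      have hc : IsClosed ({y} : Set X) :=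
        by_contra fun h => hy (NodePtLib.smooth_nhd_of_not_closed k X (fun Z hZ => (hequi Z hZ).le) hnod h)
      exact (hnod y hc).resolve_left hy
  exact H6CurveCorr.finite_of_isClosed_points (hsub ▸ hO.isClosed_compl) fun y hy => hy.1

end Groth.Agent.TFInterpNodeLib
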