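import Mathlib

/-!
# Rank one torsion free modules as ideals
-/

set_option autoImplicit false
set_option linter.style.haveILetI false

universe u

noncomputable section

namespace Groth.Agent.TFInterpNodeLib

/-- A torsion free module of rank one at finitely many primes detecting regular elements is an ideal with a
regular element. -/
theorem exists_embed {k : Type u} [Field k] [Infinite k] {O : Type u} [CommRing O] [Algebra k O]
    {M : Type u} [AddCommGroup M] [Module O M] [Module.Finite O M] {ι : Type*} [Finite ι] (q : ι → Ideal O)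
    (hq : ∀ i, (q i).IsPrime) (hnzd : ∀ a : O, (∀ i, a ∉ q i) → a ∈ nonZeroDivisors O)
    (hreg : ∀ a : O, a ∈ nonZeroDivisors O → ∀ z : M, a • z = 0 → z = 0)
    (hmin : ∀ i, ∀ b ∈ q i, ∃ a : O, a ∉ q i ∧ a * b = 0)
    (hrk : ∀ i, ∃ g : M, (∀ a : O, a • g = 0 → a ∈ q i) ∧ ∀ z : M, ∃ a : O, a ∉ q i ∧ ∃ b : O, a • z = b • g) :
    ∃ (φ : M →ₗ[O] O), Function.Injective φ ∧ ∃ m : M, φ m ∈ nonZeroDivisors O := by
  classical
  cases nonempty_fintype ι
  have avoid : ∀ C : Ideal O, (∀ i, ¬ C ≤ q i) → ∃ a ∈ C, ∀ i, a ∉ q i := fun C hC => by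
    by_contra hall
    push Not at hall
    have hsub : (C : Set O) ⊆ ⋃ i ∈ ((Finset.univ : Finset ι) : Set ι), (q i : Set O) := fun a ha => by
      obtain ⟨i, hi⟩ := hall a ha
      exact Set.mem_iUnion₂.2 ⟨i, Finset.mem_coe.2 (Finset.mem_univ i), hi⟩
    rcases isEmpty_or_nonempty ι with hι | hι
    · obtain ⟨i, -⟩ := hall 0 C.zero_mem
      exact hι.elim i
    · obtain ⟨i₀⟩ := hι
      obtain ⟨i, -, hi⟩ := (Ideal.subset_union_prime i₀ i₀ fun i _ _ _ => hq i).1 hsub
      exact hC i hi
  choose g hg hgz using hrk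
  letI : Module k M := Module.compHom M (algebraMap k O)
  let Ks : ι → Submodule k M := fun i =>
    { carrier := {z | ∃ a : O, a ∉ q i ∧ a • z = 0}
      zero_mem' := ⟨1, fun h => (hq i).ne_top ((Ideal.eq_top_iff_one _).2 h), smul_zero _⟩
      add_mem' := by
        rintro x y ⟨a, ha, hax⟩ ⟨b, hb, hby⟩
        exact ⟨a * b, fun h => ((hq i).mem_or_mem h).elim ha hb, by
          rw [smul_add, mul_comm, mul_smul, hax, smul_zero, mul_comm, mul_smul, hby, smul_zero, add_zero]⟩
      smul_mem' := by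
        rintro c x ⟨a, ha, hax⟩
        refine ⟨a, ha, ?_⟩
        show a • (algebraMap k O c • x) = 0
        rw [smul_comm, hax, smul_zero] }
  obtain ⟨m₀, hm₀⟩ := Submodule.exists_forall_notMem_of_forall_ne_top Ks fun i hi => by
    obtain ⟨a, ha, hag⟩ := (hi ▸ Submodule.mem_top : g i ∈ Ks i)
    exact ha (hg i a hag)
  have hm₀' : ∀ i, ∀ a : O, a • m₀ = 0 → a ∈ q i := fun i a ha => by_contra fun h => hm₀ i ⟨a, h, ha⟩
  have hm₀r : ∀ a : O, a • m₀ = 0 → a = 0 := fun a ha => by
    obtain ⟨c, hc, hcq⟩ := avoid (Submodule.annihilator (Submodule.span O {a})) fun i hle => by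
      obtain ⟨e, he, hea⟩ := hmin i a (hm₀' i a ha)
      exact he (hle (Submodule.mem_annihilator_span_singleton _ _ |>.2 hea))
    exact (mem_nonZeroDivisors_iff_right.1 (hnzd c hcq)) a (by
      rw [mul_comm]
      exact (Submodule.mem_annihilator_span_singleton _ _).1 hc)
  have hcond : ∀ z : M, ∃ d : O, d ∈ nonZeroDivisors O ∧ d • z ∈ Submodule.span O {m₀} := fun z => by
    obtain ⟨d, hd, hdq⟩ := avoid (Submodule.colon (Submodule.span O {m₀}) {z}) fun i hle => by
      obtain ⟨a, ha, b, hab⟩ := hgz i z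
      obtain ⟨a', ha', b', hab'⟩ := hgz i m₀
      have hb' : b' ∉ q i := fun h => by
        obtain ⟨e, he, heb⟩ := hmin i b' h
        exact ((hq i).mem_or_mem (hm₀' i (e * a') (by rw [mul_smul, hab', smul_smul, heb, zero_smul]))).elim he ha'
      refine ((hq i).mem_or_mem (hle (Submodule.mem_colon_singleton.2
        (Submodule.mem_span_singleton.2 ⟨b * a', ?_⟩) : b' * a ∈ _))).elim hb' ha
      rw [mul_smul, hab', mul_smul, hab, smul_smul, smul_smul, mul_comm]
    exact ⟨d, hnzd d hdq, Submodule.mem_colon_singleton.1 hd⟩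
  obtain ⟨G, hG⟩ := (Module.Finite.fg_top (R := O) (M := M))
  choose d hd hdz using hcond
  let D := ∏ z ∈ G, d z
  have hD : D ∈ nonZeroDivisors O := prod_mem fun z _ => hd z
  have hDz : ∀ z : M, ∃ r : O, r • m₀ = D • z := fun z => by
    refine Submodule.mem_span_singleton.1 ?_
    have hz : z ∈ Submodule.span O (G : Set M) := hG ▸ Submodule.mem_top
    induction hz using Submodule.span_induction with
    | mem w hw =>
      rw [show D = (∏ x ∈ G.erase w, d x) * d w from (Finset.prod_erase_mul _ _ (Finset.mem_coe.1 hw)).symm, mul_smul]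
      exact Submodule.smul_mem _ _ (hdz w)
    | zero => rw [smul_zero]; exact zero_mem _
    | add a b _ _ ha hb => rw [smul_add]; exact add_mem ha hb
    | smul r a _ ha => rw [smul_comm]; exact Submodule.smul_mem _ _ ha
  choose r hr using hDz
  have huniq : ∀ a b : O, a • m₀ = b • m₀ → a = b := fun a b h =>
    sub_eq_zero.1 (hm₀r _ (by rw [sub_smul, h, sub_self]))
  let φ : M →ₗ[O] O :=
    { toFun := r
      map_add' := fun x y => huniq _ _ (by rw [add_smul, hr, hr, hr, smul_add])
      map_smul' := fun c x => huniq _ _ (by rw [RingHom.id_apply, smul_eq_mul, mul_smul, hr, hr, smul_comm]) }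
  refine ⟨φ, (injective_iff_map_eq_zero _).2 fun z hz => hreg D hD z ?_, m₀, ?_⟩
  · rw [← hr z, show r z = 0 from hz, zero_smul]
  · rw [show φ m₀ = D from huniq _ _ (hr m₀)]
    exact hD

end Groth.Agent.TFInterpNodeLib
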