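import Mathlib

/-!
# Ideals of the local ring of a node

An ideal containing a non-zero-divisor is principal or isomorphic to the maximal ideal.
-/

set_option autoImplicit false
set_option linter.style.haveILetI false
set_option maxHeartbeats 1000000

universe u

open IsLocalRing

noncomputable section

namespace Groth.Agent.TFInterpNodeLib

variable {O : Type u} [CommRing O] [IsLocalRing O] [IsNoetherianRing O]

/-- What is used of the generators of the maximal ideal of a node. -/
structure NodeGens (u v : O) : Prop where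
  span : maximalIdeal O = Ideal.span {u, v}
  mul : u * v ∈ maximalIdeal O ^ 3
  reg : u + v ∈ nonZeroDivisors O
  np : ∀ c : O, maximalIdeal O ≠ Ideal.span {c}

variable {u v : O}

namespace NodeGens

variable (h : NodeGens u v)
include h

theorem symm : NodeGens v u :=
  ⟨h.span.trans (by rw [Set.pair_comm]), mul_comm u v ▸ h.mul, add_comm u v ▸ h.reg, h.np⟩

theorem memL : u ∈ maximalIdeal O := h.span.ge (Ideal.subset_span (Set.mem_insert u {v}))

theorem memR : v ∈ maximalIdeal O := h.symm.memL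

theorem notMem_span : u ∉ Ideal.span {u + v} := fun hu => h.np (u + v) (le_antisymm (h.span.le.trans (Ideal.span_le.2
  (by
    rintro z (rfl | rfl)
    · exact hu
    · have := Submodule.sub_mem _ (Ideal.mem_span_singleton_self (u + z)) hu
      simpa using this))) ((Ideal.span_singleton_le_iff_mem _).2 (add_mem h.memL h.memR)))

theorem sq_le : maximalIdeal O ^ 2 ≤ Ideal.span {u + v} * maximalIdeal O := by
  refine Submodule.le_of_le_smul_of_le_jacobson_bot (I := maximalIdeal O) (Ideal.fg_of_isNoetherianRing _)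
    (IsLocalRing.maximalIdeal_le_jacobson ⊥) ?_
  rw [smul_eq_mul, ← pow_succ', pow_two, Ideal.mul_le]
  intro r hr s hs
  rw [h.span, Ideal.mem_span_pair] at hr hs
  obtain ⟨r₀, r₁, rfl⟩ := hr
  obtain ⟨s₀, s₁, rfl⟩ := hs
  rw [show (r₀ * u + r₁ * v) * (s₀ * u + s₁ * v) = (u + v) * (r₀ * s₀ * u + r₁ * s₁ * v) +
    ((r₀ * s₁ + r₁ * s₀) - r₀ * s₀ - r₁ * s₁) * (u * v) by ring]
  exact Submodule.add_mem_sup (Ideal.mul_mem_mul (Ideal.mem_span_singleton_self _)
    (add_mem (Ideal.mul_mem_left _ _ h.memL) (Ideal.mul_mem_left _ _ h.memR))) (Ideal.mul_mem_left _ _ h.mul)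

theorem exists_w : ∃ w ∈ maximalIdeal O, u * v = (u + v) * ((u + v) * w) := by
  have h3 : maximalIdeal O ^ 3 ≤ Ideal.span {u + v} * (Ideal.span {u + v} * maximalIdeal O) := by
    calc maximalIdeal O ^ 3 = maximalIdeal O ^ 2 * maximalIdeal O := pow_succ _ 2
      _ ≤ Ideal.span {u + v} * maximalIdeal O * maximalIdeal O := mul_le_mul_left h.sq_le _
      _ = Ideal.span {u + v} * maximalIdeal O ^ 2 := by rw [mul_assoc, ← pow_two]
      _ ≤ _ := mul_le_mul_right h.sq_le _
  obtain ⟨a, ha, e⟩ := Ideal.mem_span_singleton_mul.1 (h3 h.mul)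
  obtain ⟨w, hw, rfl⟩ := Ideal.mem_span_singleton_mul.1 ha
  exact ⟨w, hw, e.symm⟩

theorem pow_eq : ∀ n : ℕ, ∃ c ∈ maximalIdeal O, u ^ (n + 1) = (u + v) ^ n * (u + (u + v) * c) := by
  obtain ⟨w, hw, hwe⟩ := h.exists_w
  intro n
  induction n with
  | zero => exact ⟨0, zero_mem _, by simp⟩
  | succ n ih =>
    obtain ⟨c, hc, hn⟩ := ih
    obtain ⟨d, hd, hde⟩ := Ideal.mem_span_singleton_mul.1 (h.sq_le (by
      rw [pow_two]; exact Ideal.mul_mem_mul h.memL hc))
    refine ⟨d - w, sub_mem hd hw, ?_⟩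
    rw [pow_succ' u (n + 1), hn]
    linear_combination (u + v) ^ n * (-hwe - (u + v) * hde)

/-- `u` does not send an ideal with a regular element into its product with `(u + v)²`. -/
theorem not_shift {I : Ideal O} {z : O} (hz : z ∈ I) (hzr : z ∈ nonZeroDivisors O)
    (hI : ∀ x ∈ I, ∃ y ∈ I, u * x = (u + v) ^ 2 * y) : False := by
  have hpow : ∀ n : ℕ, ∀ x ∈ I, ∃ y ∈ I, u ^ n * x = (u + v) ^ (2 * n) * y := by
    intro n
    induction n with
    | zero => exact fun x hx => ⟨x, hx, by simp⟩
    | succ n ih =>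
      intro x hx
      obtain ⟨y, hy, e⟩ := ih x hx
      obtain ⟨y', hy', e'⟩ := hI y hy
      exact ⟨y', hy', by linear_combination u * e + (u + v) ^ (2 * n) * e'⟩
  have hk : ∀ n : ℕ, u * z ∈ Ideal.span {(u + v) * z} ⊔ maximalIdeal O ^ n := by
    intro n
    obtain ⟨c, -, hc⟩ := h.pow_eq n
    obtain ⟨y, -, hy⟩ := hpow (n + 1) z hz
    have e : u * z + (u + v) * c * z = (u + v) ^ (n + 2) * y := by
      refine (mul_cancel_left_mem_nonZeroDivisors (pow_mem h.reg n)).1 ?_
      linear_combination hy - z * hc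
    rw [show u * z = (-c) * ((u + v) * z) + (u + v) ^ (n + 2) * y by linear_combination e]
    exact Submodule.add_mem_sup (Ideal.mul_mem_left _ _ (Ideal.mem_span_singleton_self _))
      (Ideal.mul_mem_right _ _ (Ideal.pow_le_pow_right (by omega) (Ideal.pow_mem_pow (add_mem h.memL h.memR) (n + 2))))
  let J := Ideal.span {(u + v) * z}
  have hmem : Ideal.Quotient.mk J (u * z) ∈ (⨅ n : ℕ, maximalIdeal O ^ n • ⊤ : Submodule O (O ⧸ J)) := by
    refine Submodule.mem_iInf _ |>.2 fun n => ?_
    obtain ⟨p, hp, q, hq, e⟩ := Submodule.mem_sup.1 (hk n)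
    rw [← e, map_add, Ideal.Quotient.eq_zero_iff_mem.2 hp, zero_add,
      show Ideal.Quotient.mk J q = q • (1 : O ⧸ J) by simp [Algebra.smul_def]]
    exact Submodule.smul_mem_smul hq trivial
  rw [Ideal.iInf_pow_smul_eq_bot_of_isLocalRing _ (maximalIdeal.isMaximal O).ne_top, Submodule.mem_bot,
    Ideal.Quotient.eq_zero_iff_mem, Ideal.mem_span_singleton'] at hmem
  obtain ⟨r, hr⟩ := hmem
  refine h.notMem_span (Ideal.mem_span_singleton'.2 ⟨r, ?_⟩)
  exact (mul_cancel_right_mem_nonZeroDivisors hzr).1 (by linear_combination hr)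

theorem length_quot : Module.length O (O ⧸ Ideal.span {u + v}) = 2 := by
  let m := maximalIdeal O
  let J := Ideal.span {u + v}
  have hJm : J ≤ m := (Ideal.span_singleton_le_iff_mem _).2 (add_mem h.memL h.memR)
  have hle : m ≤ Submodule.comap (LinearMap.toSpanSingleton O O u) J := fun r hr => by
    show r * u ∈ J
    exact Ideal.mul_le_left (h.sq_le (by rw [pow_two]; exact Ideal.mul_mem_mul hr h.memL))
  let f : (O ⧸ m) →ₗ[O] O ⧸ J := Submodule.mapQ m J (LinearMap.toSpanSingleton O O u) hle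
  let g : (O ⧸ J) →ₗ[O] O ⧸ m := Submodule.factor hJm
  have hf : Function.Injective f := (injective_iff_map_eq_zero _).2 fun z hz => by
    obtain ⟨r, rfl⟩ := Submodule.Quotient.mk_surjective _ z
    refine (Submodule.Quotient.mk_eq_zero _).2 (by_contra fun hr => h.notMem_span ?_)
    exact (Ideal.unit_mul_mem_iff_mem _ (IsLocalRing.notMem_maximalIdeal.1 hr)).1 ((Submodule.Quotient.mk_eq_zero _).1 hz)
  have hex : Function.Exact f g := fun z => by
    obtain ⟨r, rfl⟩ := Submodule.Quotient.mk_surjective _ z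
    constructor
    · intro hr
      have hr' : r ∈ m := (Submodule.Quotient.mk_eq_zero _).1 hr
      rw [show m = maximalIdeal O from rfl, h.span, Ideal.mem_span_pair] at hr'
      obtain ⟨p, q, rfl⟩ := hr'
      refine ⟨Submodule.Quotient.mk (p - q), (Submodule.Quotient.eq _).2 ?_⟩
      show (p - q) * u - (p * u + q * v) ∈ J
      exact Ideal.mem_span_singleton'.2 ⟨-q, by ring⟩
    · rintro ⟨w, hw⟩
      obtain ⟨s, rfl⟩ := Submodule.Quotient.mk_surjective _ w
      rw [← hw]
      exact (Submodule.Quotient.mk_eq_zero _).2 (m.mul_mem_left s h.memL)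
  haveI : IsSimpleModule O (O ⧸ m) := isSimpleModule_iff_isCoatom.2 (maximalIdeal.isMaximal O).out
  rw [Module.length_eq_add_of_exact f g hf (Submodule.factor_surjective hJm) hex, Module.length_eq_one]
  rfl

/-- For an ideal of finite colength the quotient by `(u + v)` has length two. -/
theorem length_ideal_quot (I : Ideal O) (hfin : IsFiniteLength O (O ⧸ I)) :
    Module.length O (I ⧸ Submodule.comap I.subtype (Ideal.span {u + v} * I)) = 2 := by
  let J := Ideal.span {u + v} * I
  let P : Ideal O := Ideal.span {u + v}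
  have hJI : J ≤ I := Ideal.mul_le_right
  have hJP : J ≤ P := Ideal.mul_le_left
  let f₁ : (I ⧸ Submodule.comap I.subtype J) →ₗ[O] O ⧸ J := Submodule.mapQ _ J I.subtype le_rfl
  let g₁ : (O ⧸ J) →ₗ[O] O ⧸ I := Submodule.factor hJI
  have h₁ : Function.Exact f₁ g₁ := fun z => by
    obtain ⟨r, rfl⟩ := Submodule.Quotient.mk_surjective _ z
    refine ⟨fun hr => ⟨Submodule.Quotient.mk ⟨r, (Submodule.Quotient.mk_eq_zero _).1 hr⟩, rfl⟩, ?_⟩
    rintro ⟨w, hw⟩
    obtain ⟨s, rfl⟩ := Submodule.Quotient.mk_surjective _ w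
    rw [← hw]
    exact (Submodule.Quotient.mk_eq_zero _).2 s.2
  have i₁ : Function.Injective f₁ := (injective_iff_map_eq_zero _).2 fun z hz => by
    obtain ⟨r, rfl⟩ := Submodule.Quotient.mk_surjective _ z
    exact (Submodule.Quotient.mk_eq_zero _).2 ((Submodule.Quotient.mk_eq_zero _).1 hz : (r : O) ∈ J)
  let f₂ : (O ⧸ I) →ₗ[O] O ⧸ J := Submodule.mapQ I J (LinearMap.toSpanSingleton O O (u + v)) fun r hr => by
    show r * (u + v) ∈ J
    rw [mul_comm]
    exact Ideal.mul_mem_mul (Ideal.mem_span_singleton_self _) hr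
  let g₂ : (O ⧸ J) →ₗ[O] O ⧸ P := Submodule.factor hJP
  have i₂ : Function.Injective f₂ := (injective_iff_map_eq_zero _).2 fun z hz => by
    obtain ⟨r, rfl⟩ := Submodule.Quotient.mk_surjective _ z
    have hr : r * (u + v) ∈ J := (Submodule.Quotient.mk_eq_zero _).1 hz
    obtain ⟨a, ha, e⟩ := Ideal.mem_span_singleton_mul.1 hr
    refine (Submodule.Quotient.mk_eq_zero _).2 ?_
    rwa [← (mul_cancel_left_mem_nonZeroDivisors h.reg).1 (e.trans (mul_comm r _))]
  have h₂ : Function.Exact f₂ g₂ := fun z => by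
    obtain ⟨r, rfl⟩ := Submodule.Quotient.mk_surjective _ z
    constructor
    · intro hr
      obtain ⟨a, rfl⟩ := Ideal.mem_span_singleton'.1 ((Submodule.Quotient.mk_eq_zero _).1 hr : r ∈ P)
      exact ⟨Submodule.Quotient.mk a, rfl⟩
    · rintro ⟨w, hw⟩
      obtain ⟨s, rfl⟩ := Submodule.Quotient.mk_surjective _ w
      rw [← hw]
      exact (Submodule.Quotient.mk_eq_zero _).2 (P.mul_mem_left s (Ideal.mem_span_singleton_self _))
  have e₁ := Module.length_eq_add_of_exact f₁ g₁ i₁ (Submodule.factor_surjective hJI) h₁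
  rw [Module.length_eq_add_of_exact f₂ g₂ i₂ (Submodule.factor_surjective hJP) h₂, h.length_quot,
    add_comm] at e₁
  exact (WithTop.add_right_cancel (Module.length_ne_top_iff.2 hfin) e₁).symm

omit h in
theorem finiteLength_quot [Ring.KrullDimLE 1 O] (I : Ideal O) {z : O} (hz : z ∈ I)
    (hzr : z ∈ nonZeroDivisors O) : IsFiniteLength O (O ⧸ I) := by
  haveI : IsArtinianRing (O ⧸ Ideal.span {z}) := by
    haveI : Ring.KrullDimLE 0 (O ⧸ Ideal.span {z}) := by
      refine Ring.krullDimLE_iff.2 ?_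
      have h1 := (ringKrullDim_quotient_succ_le_of_nonZeroDivisor hzr).trans (Ring.krullDimLE_iff.1 ‹Ring.KrullDimLE 1 O›)
      revert h1
      generalize ringKrullDim (O ⧸ Ideal.span {z}) = d
      intro h1
      induction d with
      | bot => exact bot_le
      | coe d =>
        norm_cast at h1 ⊢
        exact (ENat.add_le_add_iff_right (by simp)).1 (h1.trans_eq (zero_add (1 : ℕ∞)).symm)
    exact IsNoetherianRing.isArtinianRing_of_krullDimLE_zero
  have hle : Ideal.span {z} ≤ I := (Ideal.span_singleton_le_iff_mem _).2 hz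
  haveI : IsArtinian O (O ⧸ Ideal.span {z}) := isArtinian_of_surjective_algebraMap (Ideal.Quotient.mk_surjective (I := Ideal.span {z}))
  haveI : IsArtinian O (O ⧸ I) := isArtinian_of_surjective _ (Submodule.factor hle) (Submodule.factor_surjective hle)
  exact isFiniteLength_iff_isNoetherian_isArtinian.2 ⟨inferInstance, inferInstance⟩

/-- An ideal with a regular element is principal or isomorphic to the maximal ideal. -/
theorem equiv_maximal [Ring.KrullDimLE 1 O] (I : Ideal O) {z : O} (hz : z ∈ I) (hzr : z ∈ nonZeroDivisors O)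
    (hI : ∀ c : O, I ≠ Ideal.span {c}) : Nonempty (I ≃ₗ[O] maximalIdeal O) := by
  classical
  have hfin := finiteLength_quot I hz hzr
  let m := maximalIdeal O
  let t := u + v
  let mI : Submodule O I := m • ⊤
  let tI : Submodule O I := Submodule.comap I.subtype (Ideal.span {t} * I)
  have htI : tI ≤ mI := fun x hx => by
    obtain ⟨y, hy, e⟩ := Ideal.mem_span_singleton_mul.1 hx
    rw [show x = t • (⟨y, hy⟩ : I) from Subtype.ext e.symm]
    exact Submodule.smul_mem_smul (add_mem h.memL h.memR) trivial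
  have hV2 : 2 ≤ Module.length O (I ⧸ mI) := by
    by_contra hlt
    have h1 : Module.length O (I ⧸ mI) ≤ 1 := Order.le_of_lt_add_one (one_add_one_eq_two (R := ℕ∞) ▸ not_le.1 hlt)
    obtain ⟨c, hc⟩ : ∃ c : I, ∀ w : I ⧸ mI, w ∈ Submodule.span O {Submodule.Quotient.mk c} := by
      rcases subsingleton_or_nontrivial (I ⧸ mI) with hs | hs
      · exact ⟨0, fun w => Subsingleton.elim (0 : I ⧸ mI) w ▸ zero_mem _⟩
      · have : IsSimpleModule O (I ⧸ mI) := Module.length_eq_one_iff.1
          (le_antisymm h1 (Order.one_le_iff_pos.2 (Module.length_pos (R := O) (M := I ⧸ mI))))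
        obtain ⟨w₀, hw₀⟩ := exists_ne (0 : I ⧸ mI)
        obtain ⟨c, rfl⟩ := Submodule.Quotient.mk_surjective _ w₀
        exact ⟨c, fun w => by rw [IsSimpleModule.span_singleton_eq_top O hw₀]; trivial⟩
    have htop : (⊤ : Submodule O I) ≤ Submodule.span O {c} ⊔ m • ⊤ := fun x _ => by
      obtain ⟨r, hr⟩ := Submodule.mem_span_singleton.1 (hc (Submodule.Quotient.mk x))
      have hr' : x - r • c ∈ mI := (Submodule.Quotient.eq _).1 hr.symm
      exact Submodule.mem_sup.2 ⟨r • c, Submodule.smul_mem _ _ (Submodule.mem_span_singleton_self c), _, hr', by abel⟩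
    have hsp := Submodule.le_of_le_smul_of_le_jacobson_bot (Module.Finite.fg_top (R := O) (M := I))
      (IsLocalRing.maximalIdeal_le_jacobson ⊥) htop
    refine hI c (le_antisymm (fun x hx => ?_) ((Ideal.span_singleton_le_iff_mem _).2 c.2))
    obtain ⟨r, hr⟩ := Submodule.mem_span_singleton.1 (hsp (Submodule.mem_top (x := (⟨x, hx⟩ : I))))
    exact Ideal.mem_span_singleton'.2 ⟨r, congrArg Subtype.val hr⟩
  let π : (I ⧸ tI) →ₗ[O] I ⧸ mI := Submodule.factor htI
  have hsum := Module.length_eq_add_of_exact (LinearMap.ker π).subtype π Subtype.val_injective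
    (Submodule.factor_surjective htI) (LinearMap.exact_subtype_ker_map π)
  rw [show Module.length O (I ⧸ tI) = 2 from h.length_ideal_quot I hfin] at hsum
  have hVle : Module.length O (I ⧸ mI) ≤ 2 := hsum ▸ le_add_self
  have hV : Module.length O (I ⧸ mI) = 2 := le_antisymm hVle hV2
  have hmI : mI ≤ tI := by
    rw [hV] at hsum
    have h0 : Module.length O (LinearMap.ker π) = 0 :=
      (WithTop.add_right_cancel (ENat.ofNat_ne_top 2) (hsum.symm.trans (zero_add 2).symm))
    haveI : Subsingleton (LinearMap.ker π) := Module.length_eq_zero_iff.1 h0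
    intro x hx
    refine (Submodule.Quotient.mk_eq_zero tI).1 ?_
    exact congrArg Subtype.val (Subsingleton.elim
      (⟨Submodule.Quotient.mk x, LinearMap.mem_ker.2 ((Submodule.Quotient.mk_eq_zero mI).2 hx)⟩ : LinearMap.ker π) 0)
  have key : ∀ a ∈ m, ∀ x : I, ∃ y : I, t * y.1 = a * x.1 := fun a ha x => by
    obtain ⟨y, hy, e⟩ := Ideal.mem_span_singleton_mul.1 (hmI (Submodule.smul_mem_smul ha (Submodule.mem_top (x := x))))
    exact ⟨⟨y, hy⟩, e⟩
  have huniq : ∀ {p q : I}, t * p.1 = t * q.1 → p = q := fun e =>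
    Subtype.ext ((mul_cancel_left_mem_nonZeroDivisors h.reg).1 e)
  choose F hF using fun x : I => key u h.memL x
  let β : I →ₗ[O] I :=
    { toFun := F
      map_add' := fun x y => huniq (by simp only [Submodule.coe_add, mul_add, hF])
      map_smul' := fun r x => huniq (by
        simp only [Submodule.coe_smul, smul_eq_mul, RingHom.id_apply, hF]
        linear_combination -r * hF x) }
  have hβ : ∀ x : I, t * (β x).1 = u * x.1 := hF
  have hγ : ∀ x : I, t * (x - β x).1 = v * x.1 := fun x => by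
    simp only [Submodule.coe_sub]
    linear_combination -hβ x
  have hm3 : ∀ x : I, ∃ y : I, u * v * x.1 = t * (t * (t * y.1)) := fun x => by
    obtain ⟨w, hw, e⟩ := h.exists_w
    obtain ⟨y, hy⟩ := key w hw x
    exact ⟨y, by rw [e, hy]; ring⟩
  let b : (I ⧸ mI) →ₗ[O] I ⧸ mI := Submodule.mapQ mI mI β fun x hx => by
    rw [Submodule.mem_comap]
    have := Submodule.mem_map_of_mem (f := β) hx
    rw [Submodule.map_smul''] at this
    exact Submodule.smul_mono le_rfl le_top this
  have hidem : ∀ w, b (b w) = b w := fun w => by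
    obtain ⟨x, rfl⟩ := Submodule.Quotient.mk_surjective _ w
    refine (Submodule.Quotient.eq _).2 ?_
    obtain ⟨y, hy⟩ := hm3 x
    rw [show β (β x) - β x = t • (-y) from huniq (by
      simp only [Submodule.coe_sub, Submodule.coe_smul, Submodule.coe_neg, smul_eq_mul]
      refine (mul_cancel_left_mem_nonZeroDivisors h.reg).1 ?_
      linear_combination t * hβ (β x) + (u - t) * hβ x + (-hy))]
    exact Submodule.smul_mem_smul (add_mem h.memL h.memR) trivial
  obtain ⟨x, hx⟩ : ∃ x : I, β x ∉ mI := by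
    by_contra hall
    push Not at hall
    refine h.not_shift hz hzr fun x hx => ?_
    obtain ⟨y, hy, e⟩ := Ideal.mem_span_singleton_mul.1 (hmI (hall ⟨x, hx⟩))
    refine ⟨y, hy, ?_⟩
    rw [← hβ ⟨x, hx⟩, ← show t * y = (β ⟨x, hx⟩).1 from e]
    ring
  obtain ⟨x', hx'⟩ : ∃ x : I, x - β x ∉ mI := by
    by_contra hall
    push Not at hall
    refine h.symm.not_shift hz hzr fun x hx => ?_
    obtain ⟨y, hy, e⟩ := Ideal.mem_span_singleton_mul.1 (hmI (hall ⟨x, hx⟩))
    refine ⟨y, hy, ?_⟩
    rw [← hγ ⟨x, hx⟩, ← show t * y = ((⟨x, hx⟩ : I) - β ⟨x, hx⟩).1 from e]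
    ring
  let w : I := β x + (x' - β x')
  let p₁ : I ⧸ mI := b (Submodule.Quotient.mk x)
  let p₂ : I ⧸ mI := Submodule.Quotient.mk x' - b (Submodule.Quotient.mk x')
  have hp₁ : p₁ ≠ 0 := fun e => hx ((Submodule.Quotient.mk_eq_zero _).1 e)
  have hp₂ : p₂ ≠ 0 := fun e => hx' ((Submodule.Quotient.mk_eq_zero _).1 e)
  have hker₂ : p₂ ∈ LinearMap.ker b := by simp [p₂, hidem]
  have hbsum := Module.length_eq_add_of_exact (LinearMap.ker b).subtype b.rangeRestrict Subtype.val_injective
    b.surjective_rangeRestrict (by rw [← LinearMap.ker_rangeRestrict b]; exact LinearMap.exact_subtype_ker_map _)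
  rw [hV] at hbsum
  have hone : Module.length O (LinearMap.ker b) = 1 ∧ Module.length O (LinearMap.range b) = 1 := by
    haveI : Nontrivial (LinearMap.ker b) := nontrivial_of_ne ⟨p₂, hker₂⟩ 0 fun e => hp₂ (congrArg Subtype.val e)
    haveI : Nontrivial (LinearMap.range b) := nontrivial_of_ne ⟨p₁, ⟨_, rfl⟩⟩ 0 fun e => hp₁ (congrArg Subtype.val e)
    have a₁ : (0 : ℕ∞) < Module.length O (LinearMap.ker b) := Module.length_pos
    have a₂ : (0 : ℕ∞) < Module.length O (LinearMap.range b) := Module.length_pos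
    generalize Module.length O (LinearMap.ker b) = a at hbsum a₁
    generalize Module.length O (LinearMap.range b) = c at hbsum a₂
    induction a using ENat.recTopCoe with
    | top => simp at hbsum
    | coe a =>
      induction c using ENat.recTopCoe with
      | top => simp at hbsum
      | coe c =>
        norm_cast at hbsum a₁ a₂ ⊢
        omega
  haveI := Module.length_eq_one_iff.1 hone.1
  haveI := Module.length_eq_one_iff.1 hone.2
  have hbw : b (Submodule.Quotient.mk w) = p₁ := by
    show b (b (Submodule.Quotient.mk x) + p₂) = p₁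
    rw [map_add, hidem, LinearMap.mem_ker.1 hker₂, add_zero]
  let S : Submodule O I := Submodule.span O {w, β w}
  have hS : (⊤ : Submodule O I) ≤ S ⊔ m • ⊤ := fun y _ => by
    let ym : I ⧸ mI := Submodule.Quotient.mk y
    have h₁ := IsSimpleModule.span_singleton_eq_top O (show (⟨p₁, ⟨_, rfl⟩⟩ : LinearMap.range b) ≠ 0 from
      fun e => hp₁ (congrArg Subtype.val e))
    have h₂ := IsSimpleModule.span_singleton_eq_top O (show (⟨p₂, hker₂⟩ : LinearMap.ker b) ≠ 0 from
      fun e => hp₂ (congrArg Subtype.val e))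
    obtain ⟨r₁, hr₁⟩ := Submodule.mem_span_singleton.1 (h₁.ge (Submodule.mem_top (x := (⟨b ym, ⟨_, rfl⟩⟩ : LinearMap.range b))))
    obtain ⟨r₂, hr₂⟩ := Submodule.mem_span_singleton.1 (h₂.ge (Submodule.mem_top
      (x := (⟨ym - b ym, by simp [hidem]⟩ : LinearMap.ker b))))
    have e₁ : r₁ • p₁ = b ym := congrArg Subtype.val hr₁
    have e₂ : r₂ • p₂ = ym - b ym := congrArg Subtype.val hr₂
    have hy : y - ((r₁ - r₂) • β w + r₂ • w) ∈ mI := by
      refine (Submodule.Quotient.mk_eq_zero _).1 ?_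
      show ym - ((r₁ - r₂) • b (Submodule.Quotient.mk w) + r₂ • (p₁ + p₂)) = 0
      rw [hbw, smul_add, sub_smul, e₁, e₂]
      abel
    exact Submodule.mem_sup.2 ⟨_, S.add_mem (S.smul_mem _ (Submodule.subset_span (Set.mem_insert_of_mem _ rfl)))
      (S.smul_mem _ (Submodule.subset_span (Set.mem_insert _ _))), _, hy, by abel⟩
  have hStop : (⊤ : Submodule O I) ≤ S := Submodule.le_of_le_smul_of_le_jacobson_bot
    (Module.Finite.fg_top (R := O) (M := I)) (IsLocalRing.maximalIdeal_le_jacobson ⊥) hS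
  choose G hG using fun a : m => key a.1 a.2 w
  let Φ : m →ₗ[O] I :=
    { toFun := G
      map_add' := fun a a' => huniq (by simp only [Submodule.coe_add, mul_add, hG, add_mul])
      map_smul' := fun r a => huniq (by
        simp only [Submodule.coe_smul, smul_eq_mul, RingHom.id_apply, hG]
        linear_combination -r * hG a) }
  have hsur : Function.Surjective Φ := fun y => by
    obtain ⟨p, q, e⟩ := Submodule.mem_span_pair.1 (hStop (Submodule.mem_top (x := y)))
    refine ⟨⟨p * t + q * u, add_mem (Ideal.mul_mem_left _ _ (add_mem h.memL h.memR)) (Ideal.mul_mem_left _ _ h.memL)⟩,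
      huniq ((hG _).trans ?_)⟩
    rw [← e]
    simp only [Submodule.coe_add, Submodule.coe_smul, smul_eq_mul]
    linear_combination -q * hβ w
  refine ⟨(LinearEquiv.ofBijective Φ ⟨(injective_iff_map_eq_zero _).2 fun a ha => ?_, hsur⟩).symm⟩
  have h0 : a.1 * w.1 = 0 := by
    rw [← hG a, show G a = 0 from ha, Submodule.coe_zero, mul_zero]
  obtain ⟨c, hc⟩ := hsur ⟨z, hz⟩
  have h1 : a.1 * (t * z) = 0 := by
    have e : t * z = c.1 * w.1 := by rw [← hG c, show G c = ⟨z, hz⟩ from hc]
    rw [e, mul_left_comm, h0, mul_zero]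
  exact Subtype.ext ((mul_right_mem_nonZeroDivisors_eq_zero_iff (mul_mem h.reg hzr)).1 h1)

end NodeGens

end Groth.Agent.TFInterpNodeLib
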