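import Groth.Agent.TFInterpNodeLib.Local
import Groth.Agent.TFInterpNodeLib.RankOneAlg
import Groth.Agent.TFInterpNodeLib.Embed
import Groth.Agent.NodePtLib.Gor
import Groth.Agent.ProjSerreLib.RankOne
import Groth.Agent.DimFormulaLib.Misc
import Groth.Agent.VBLib.Regular
import Groth.Agent.DimLiftLib.Basic

/-!
# Stalks of rank one torsion free modules on nodal curves
-/

set_option autoImplicit false
set_option backward.isDefEq.respectTransparency false
set_option linter.style.haveILetI false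
set_option maxHeartbeats 1600000

universe u

open CategoryTheory CategoryTheory.Limits AlgebraicGeometry TopologicalSpace Opposite
open IsLocalRing Groth.Agent.PullbackMod Groth.Agent.DCohLib

noncomputable section

namespace Groth.Agent.TFInterpNodeLib

open NodePtLib in
/-- The maximal ideal at a node of a curve over an algebraically closed field. -/
theorem exists_nodeGens (k : Type u) [Field k] [IsAlgClosed k] (X : Scheme.{u})
    [X.Over (Spec (CommRingCat.of k))] [LocallyOfFiniteType (X ↘ Spec (CommRingCat.of k))]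
    {x : X} (hn : Curv2.IsNode k X x) : ∃ u v : X.presheaf.stalk x, NodeGens u v := by
  classical
  obtain ⟨hxc, z, rfl, hord⟩ := hn
  let K := AlgebraicClosure k
  let Xb := Curv2.bc k X K
  haveI : IsIso (CommRingCat.ofHom (algebraMap k K)) := (ConcreteCategory.isIso_iff_bijective _).2
    (IsAlgClosed.algebraMap_bijective_of_isIntegral (k := k) (K := K))
  haveI : IsIso (Curv2.bcFst k X K) :=
    inferInstanceAs (IsIso (pullback.fst _ (Spec.map (CommRingCat.ofHom (algebraMap k K)))))
  letI : Xb.Over (Spec (CommRingCat.of K)) := ⟨Curv2.bcSnd k X K⟩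
  haveI : LocallyOfFiniteType (Xb ↘ Spec (CommRingCat.of K)) :=
    inferInstanceAs (LocallyOfFiniteType (pullback.snd (X ↘ Spec (CommRingCat.of k)) _))
  haveI := LocallyOfFiniteType.isLocallyNoetherian (X ↘ Spec (CommRingCat.of k))
  haveI := LocallyOfFiniteType.isLocallyNoetherian (Xb ↘ Spec (CommRingCat.of K))
  letI := Curv2.stalkAlgebra K Xb z
  have hK : Rational K (Xb.presheaf.stalk z) := rational_stalk (K := K) (NodalLib.closed_over hxc z rfl)
  haveI := essFiniteType_stalk (k := K) z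
  obtain ⟨hd, a, b, hg⟩ := (NodePtLib.isOrdDoublePt_iff K _ hK).1 hord
  let ψ : X.presheaf.stalk (Curv2.bcFst k X K z) ≃+* Xb.presheaf.stalk z :=
    (asIso ((Curv2.bcFst k X K).stalkMap z)).commRingCatIsoToRingEquiv
  have hmap : (maximalIdeal (Xb.presheaf.stalk z)).map ψ.symm.toRingHom = maximalIdeal _ :=
    IsLocalRing.map_ringEquiv_maximalIdeal ψ.symm
  have hindep : ∀ α β : K, algebraMap K _ α * a + algebraMap K _ β * b ∈ maximalIdeal (Xb.presheaf.stalk z) ^ 2 →
      α = 0 ∧ β = 0 := fun α β hh => by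
    have hli := Fintype.linearIndependent_iff.1 (linearIndependent_monQ hK hg hd (N := 2) (by norm_num))
      (Sum.elim ![0, α] ![β]) (by
        rw [Fintype.sum_sum_type, Fin.sum_univ_two, Fin.sum_univ_one]
        simp only [Sum.elim_inl, Sum.elim_inr, monQ, mon, Matrix.cons_val_zero, Matrix.cons_val_one, zero_smul,
          zero_add, smul_mk, ← map_add, Ideal.Quotient.eq_zero_iff_mem, Fin.val_one, Fin.val_zero, pow_one]
        exact hh)
    exact ⟨by simpa using hli (.inl 1), by simpa using hli (.inr 0)⟩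
  have hnp : ∀ c, maximalIdeal (Xb.presheaf.stalk z) ≠ Ideal.span {c} := fun c hc => by
    have hca : a ∈ Ideal.span {c} := hc.le hg.mem_left
    have hcb : b ∈ Ideal.span {c} := hc.le hg.mem_right
    obtain ⟨p, hp⟩ := Ideal.mem_span_singleton'.1 hca
    obtain ⟨q, hq⟩ := Ideal.mem_span_singleton'.1 hcb
    obtain ⟨α, hα⟩ := hK p
    obtain ⟨β, hβ⟩ := hK q
    have hcm : c ∈ maximalIdeal (Xb.presheaf.stalk z) := hc.ge (Ideal.mem_span_singleton_self c)
    have hrel := hindep β (-α) (by
      rw [map_neg, show algebraMap K (Xb.presheaf.stalk z) β * a + -algebraMap K _ α * b =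
        c * (algebraMap K _ β * (p - algebraMap K _ α)) - c * (algebraMap K _ α * (q - algebraMap K _ β)) by
          linear_combination (-algebraMap K (Xb.presheaf.stalk z) β) * hp + algebraMap K _ α * hq, pow_two]
      exact sub_mem (Ideal.mul_mem_mul hcm (Ideal.mul_mem_left _ _ hα)) (Ideal.mul_mem_mul hcm (Ideal.mul_mem_left _ _ hβ)))
    have hα0 : α = 0 := neg_eq_zero.1 hrel.2
    rw [hα0, map_zero, sub_zero] at hα
    refine one_ne_zero (α := K) (hindep 1 0 ?_).1
    rw [map_one, map_zero, zero_mul, add_zero, one_mul, ← hp, pow_two]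
    exact Ideal.mul_mem_mul hα hcm
  refine ⟨ψ.symm a, ψ.symm b, ?_, ?_, ?_, fun c hc => hnp (ψ c) ?_⟩
  · rw [← hmap, hg.1, Ideal.map_span]
    congr 1
    simp [Set.image_insert_eq]
  · rw [← map_mul, ← hmap, ← Ideal.map_pow]
    exact Ideal.mem_map_of_mem _ hg.2
  · rw [← map_add, mem_nonZeroDivisors_iff_right]
    intro e he
    have h1 : ψ e * (a + b) = 0 := by
      have := congrArg ψ he
      rwa [map_mul, RingEquiv.apply_symm_apply, map_zero] at this
    exact ψ.map_eq_zero_iff.1 (mem_nonZeroDivisors_iff_right.1 (sum_gens_mem_nonZeroDivisors hK hg hd) _ h1)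
  · rw [← IsLocalRing.map_ringEquiv_maximalIdeal ψ, hc, Ideal.map_span, Set.image_singleton]

variable {X : Scheme.{u}}

theorem exists_spec_rep (M : X.Modules) [Coh.IsQCoh M] {η x : X} (hsp : η ⤳ x) (w : M.presheaf.stalk η) :
    ∃ (a : X.presheaf.stalk x) (z : M.presheaf.stalk x), IsUnit (X.presheaf.stalkSpecializes hsp a) ∧
      M.presheaf.stalkSpecializes hsp z = X.presheaf.stalkSpecializes hsp a • w := by
  obtain ⟨_, ⟨V : X.Opens, (hV : IsAffineOpen V), rfl⟩, hxV, -⟩ :=
    X.isBasis_affineOpens.exists_subset_of_mem_open (Set.mem_univ x) isOpen_univ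
  obtain ⟨c, m, hc, hcm⟩ := exists_germ_rep M hV (hsp.mem_open V.2 hxV) w
  refine ⟨X.presheaf.germ V x hxV c, M.presheaf.germ V x hxV m, ?_, ?_⟩
  · rw [TopCat.Presheaf.germ_stalkSpecializes_apply]; exact hc
  · rw [TopCat.Presheaf.germ_stalkSpecializes_apply, TopCat.Presheaf.germ_stalkSpecializes_apply]; exact hcm.symm

theorem exists_spec_kill (M : X.Modules) [Coh.IsQCoh M] {η x : X} (hsp : η ⤳ x) (z : M.presheaf.stalk x)
    (hz : M.presheaf.stalkSpecializes hsp z = 0) :
    ∃ a : X.presheaf.stalk x, IsUnit (X.presheaf.stalkSpecializes hsp a) ∧ a • z = 0 := by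
  obtain ⟨_, ⟨V : X.Opens, (hV : IsAffineOpen V), rfl⟩, hxV, -⟩ :=
    X.isBasis_affineOpens.exists_subset_of_mem_open (Set.mem_univ x) isOpen_univ
  obtain ⟨c, m, hc, hcm⟩ := exists_germ_rep M hV hxV z
  have hηV := hsp.mem_open V.2 hxV
  have h0 : M.presheaf.germ V η hηV m = 0 := by
    rw [← TopCat.Presheaf.germ_stalkSpecializes_apply M.presheaf hxV hsp m, ← hcm, RefOne.stalkSpecializes_smul M hsp,
      hz, smul_zero]
  obtain ⟨t, ht, htm⟩ := exists_of_germ_eq_zero M hV hηV h0
  refine ⟨X.presheaf.germ V x hxV (t * c), ?_, ?_⟩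
  · rw [TopCat.Presheaf.germ_stalkSpecializes_apply, map_mul]
    refine ((X.mem_basicOpen t η hηV).1 ((primeCompl_primeIdealOf hV η hηV t).1 ht)).mul ?_
    exact (TopCat.Presheaf.germ_stalkSpecializes_apply X.presheaf hxV hsp c) ▸ hc.map (X.presheaf.stalkSpecializes hsp).hom
  · rw [map_mul, mul_smul, hcm, ← StalkHomLib.germ_smul', htm, map_zero]

theorem exists_ring_kill {η x : X} (hsp : η ⤳ x) (b : X.presheaf.stalk x)
    (hb : X.presheaf.stalkSpecializes hsp b = 0) :
    ∃ a : X.presheaf.stalk x, IsUnit (X.presheaf.stalkSpecializes hsp a) ∧ a * b = 0 := by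
  obtain ⟨_, ⟨V : X.Opens, (hV : IsAffineOpen V), rfl⟩, hxV, -⟩ :=
    X.isBasis_affineOpens.exists_subset_of_mem_open (Set.mem_univ x) isOpen_univ
  letI : Algebra Γ(X, V) (X.presheaf.stalk x) := TopCat.Presheaf.algebra_section_stalk X.presheaf ⟨x, hxV⟩
  haveI := hV.isLocalization_stalk ⟨x, hxV⟩
  obtain ⟨⟨m, c⟩, hcm⟩ := IsLocalization.surj (hV.primeIdealOf ⟨x, hxV⟩).asIdeal.primeCompl b
  have hηV := hsp.mem_open V.2 hxV
  letI : Algebra Γ(X, V) (X.presheaf.stalk η) := TopCat.Presheaf.algebra_section_stalk X.presheaf ⟨η, hηV⟩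
  haveI := hV.isLocalization_stalk ⟨η, hηV⟩
  change b * X.presheaf.germ V x hxV c.1 = X.presheaf.germ V x hxV m at hcm
  have h0 : algebraMap Γ(X, V) (X.presheaf.stalk η) m = 0 := by
    show X.presheaf.germ V η hηV m = 0
    rw [← TopCat.Presheaf.germ_stalkSpecializes_apply X.presheaf hxV hsp m, ← hcm, map_mul, hb, zero_mul]
  obtain ⟨t, htm⟩ := (IsLocalization.map_eq_zero_iff (hV.primeIdealOf ⟨η, hηV⟩).asIdeal.primeCompl _ _).1 h0
  have hc : IsUnit (X.presheaf.germ V x hxV c.1) :=
    (X.mem_basicOpen c.1 x hxV).1 ((primeCompl_primeIdealOf hV x hxV c.1).1 c.2)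
  refine ⟨X.presheaf.germ V x hxV t.1, ?_, hc.mul_left_eq_zero.1 ?_⟩
  · rw [TopCat.Presheaf.germ_stalkSpecializes_apply]
    exact (X.mem_basicOpen t.1 η hηV).1 ((primeCompl_primeIdealOf hV η hηV t.1).1 t.2)
  · rw [mul_assoc, hcm, ← map_mul, htm, map_zero]

/-- The generic points of the components. -/
def genPts (X : Scheme.{u}) : Set X := {η | closure ({η} : Set X) ∈ irreducibleComponents (X : Type u)}

theorem nonempty_equiv_of_finrank_one {R : Type u} [CommRing R] (hf : IsField R) {W : Type u} [AddCommGroup W]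
    [Module R W] (h : Module.finrank R W = 1) : Nonempty (W ≃ₗ[R] R) := by
  letI := hf.toField
  haveI : Module.Finite R W := Module.finite_of_finrank_eq_succ h
  exact FiniteDimensional.nonempty_linearEquiv_of_finrank_eq (h.trans (Module.finrank_self R).symm)

variable (k : Type u) [Field k] [IsAlgClosed k] [X.Over (Spec (CommRingCat.of k))]
  [IsProper (X ↘ Spec (CommRingCat.of k))]

include k in
/-- The stalks of a rank one torsion free module are ideals with regular elements. -/
theorem exists_stalk_ideal [IsReduced X] {L : X.Modules} (hL : Coh.IsCoh L) (hLt : TorSh.IsTorsionFree L)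
    (hrk : ∀ η ∈ genPts X, Module.finrank (X.presheaf.stalk η) (L.presheaf.stalk η) = 1) (x : X) :
    ∃ φ : L.presheaf.stalk x →ₗ[X.presheaf.stalk x] X.presheaf.stalk x, Function.Injective φ ∧
      ∃ m, φ m ∈ nonZeroDivisors (X.presheaf.stalk x) := by
  classical
  haveI := EulerIneqLib.isNoetherian_proper (X := X) k
  haveI := hL.1
  letI := Curv2.stalkAlgebra k X x
  haveI := PullbackMod.finite_stalk_of_isFT hL.2 x
  have hGfin : (genPts X).Finite := by
    haveI := (NoetherianSpace.finite_irreducibleComponents (α := X)).to_subtype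
    refine Set.Finite.of_injOn (f := fun η => closure ({η} : Set X)) (fun η hη => hη) (fun a _ b _ e => ?_)
      (NoetherianSpace.finite_irreducibleComponents (α := X))
    exact ((isGenericPoint_closure (x := a)).eq (show IsGenericPoint b (closure {a}) from e.symm))
  let G : Set X := {η | η ∈ genPts X ∧ η ⤳ x}
  haveI : Finite G := (hGfin.subset fun η hη => hη.1).to_subtype
  have hfield : ∀ η : G, IsField (X.presheaf.stalk η.1) := fun η =>
    ProjSerreLib.isField_stalk_of_component η.2.1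
  let sp := fun η : G => (X.presheaf.stalkSpecializes η.2.2).hom
  let q : G → Ideal (X.presheaf.stalk x) := fun η => (maximalIdeal (X.presheaf.stalk η.1)).comap (sp η)
  have hq : ∀ η b, b ∈ q η ↔ sp η b = 0 := fun η b => by
    rw [Ideal.mem_comap, IsLocalRing.isField_iff_maximalIdeal_eq.1 (hfield η), Ideal.mem_bot]
  have hu : ∀ η b, IsUnit (sp η b) → b ∉ q η := fun η b hb h => by
    rw [(hq η b).1 h] at hb
    exact not_isUnit_zero hb
  have hnzd : ∀ a, (∀ η, a ∉ q η) → a ∈ nonZeroDivisors (X.presheaf.stalk x) := fun a ha => by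
    rw [mem_nonZeroDivisors_iff_right]
    intro c hc
    have hcz : ∀ η, sp η c = 0 := fun η => by
      letI := (hfield η).toField
      have h := congrArg (sp η) hc
      rw [map_mul, map_zero] at h
      exact (mul_eq_zero.1 h).resolve_right fun h0 => ha η ((hq η a).2 h0)
    obtain ⟨U, hxU, s, rfl⟩ := TopCat.Presheaf.exists_germ_eq X.presheaf c
    let B : Set X := ⋃ η ∈ {η | η ∈ genPts X ∧ ¬ η ⤳ x}, closure {η}
    have hB : IsClosed B := (hGfin.subset fun η hη => hη.1).isClosed_biUnion fun η _ => isClosed_closure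
    have hxB : x ∉ B := fun h => by
      obtain ⟨η, hη, hxη⟩ := Set.mem_iUnion₂.1 h
      exact hη.2 (specializes_iff_mem_closure.2 hxη)
    let V : X.Opens := U ⊓ ⟨Bᶜ, hB.isOpen_compl⟩
    rw [← TopCat.Presheaf.germ_res_apply X.presheaf (homOfLE (inf_le_left : V ≤ U)) x ⟨hxU, hxB⟩ s]
    have h0 : X.presheaf.map (homOfLE (inf_le_left : V ≤ U)).op s = 0 := by
      refine (basicOpen_eq_bot_iff _).1 (eq_bot_iff.2 fun y hy => ?_)
      have hyV : y ∈ V := X.basicOpen_le _ hy
      obtain ⟨η, hη, hηy⟩ : ∃ η ∈ genPts X, η ⤳ y := by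
        obtain ⟨Z, hZ, hyZ⟩ := exists_mem_irreducibleComponents_subset_of_isIrreducible {y} isIrreducible_singleton
        obtain ⟨ξ, hξ⟩ := QuasiSober.sober hZ.1 (isClosed_of_mem_irreducibleComponents Z hZ)
        refine ⟨ξ, ?_, hξ.specializes (hyZ rfl)⟩
        show closure ({ξ} : Set X) ∈ irreducibleComponents (X : Type u)
        rw [hξ.def]
        exact hZ
      have hηx : η ⤳ x := by_contra fun h => hyV.2 (Set.mem_iUnion₂.2 ⟨η, ⟨hη, h⟩, specializes_iff_mem_closure.1 hηy⟩)
      have hηb := hηy.mem_open (X.basicOpen _).2 hy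
      have hηV := hηy.mem_open V.2 hyV
      have hun := (X.mem_basicOpen _ η hηV).1 hηb
      rw [TopCat.Presheaf.germ_res_apply, ← TopCat.Presheaf.germ_stalkSpecializes_apply X.presheaf hxU hηx s,
        show X.presheaf.stalkSpecializes hηx (X.presheaf.germ U x hxU s) = 0 from hcz ⟨η, hη, hηx⟩] at hun
      exact (not_isUnit_zero hun).elim
    rw [h0, map_zero]
  refine exists_embed (k := k) q (fun η => Ideal.comap_isPrime _ _) hnzd
    (fun a ha z hz => ?_) (fun η b hb => ?_) fun η => ?_
  · haveI := hLt x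
    exact Module.IsTorsionFree.isSMulRegular (isRegular_iff_mem_nonZeroDivisors.2 ha) (hz.trans (smul_zero a).symm)
  · obtain ⟨a, ha, hab⟩ := exists_ring_kill η.2.2 b ((hq η b).1 hb)
    exact ⟨a, hu η a ha, hab⟩
  · obtain ⟨e⟩ := nonempty_equiv_of_finrank_one (hfield η) (hrk _ η.2.1)
    obtain ⟨a₀, g, ha₀, hg⟩ := exists_spec_rep L η.2.2 (e.symm 1)
    have heg : e (L.presheaf.stalkSpecializes η.2.2 g) = sp η a₀ := by
      rw [hg, map_smul, LinearEquiv.apply_symm_apply, smul_eq_mul, mul_one]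
    refine ⟨g, fun a hag => ?_, fun z => ?_⟩
    · refine (hq η a).2 ?_
      have h := congrArg (fun w => e (L.presheaf.stalkSpecializes η.2.2 w)) hag
      simp only [map_zero] at h
      rw [RefOne.stalkSpecializes_smul, map_smul, heg, smul_eq_mul] at h
      exact ha₀.mul_left_eq_zero.1 h
    · letI : (Coh.structureModule X).IsQuasicoherent := (DevLib.isCoh_structureModule X).1
      obtain ⟨a, b, ha, hb⟩ : ∃ a b : X.presheaf.stalk x, IsUnit (sp η a) ∧
          sp η b = sp η a * (e (L.presheaf.stalkSpecializes η.2.2 z) * ↑ha₀.unit⁻¹) := by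
        obtain ⟨_, ⟨V : X.Opens, (hV : IsAffineOpen V), rfl⟩, hxV, -⟩ :=
          X.isBasis_affineOpens.exists_subset_of_mem_open (Set.mem_univ x) isOpen_univ
        have hηV := η.2.2.mem_open V.2 hxV
        letI : Algebra Γ(X, V) (X.presheaf.stalk η.1) := TopCat.Presheaf.algebra_section_stalk X.presheaf ⟨η.1, hηV⟩
        haveI := hV.isLocalization_stalk ⟨η.1, hηV⟩
        obtain ⟨⟨m, c⟩, hcm⟩ := IsLocalization.surj (hV.primeIdealOf ⟨η.1, hηV⟩).asIdeal.primeCompl
          (e (L.presheaf.stalkSpecializes η.2.2 z) * ↑ha₀.unit⁻¹)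
        refine ⟨X.presheaf.germ V x hxV c.1, X.presheaf.germ V x hxV m, ?_, ?_⟩
        · show IsUnit (X.presheaf.stalkSpecializes η.2.2 _)
          rw [TopCat.Presheaf.germ_stalkSpecializes_apply]
          exact (X.mem_basicOpen c.1 η.1 hηV).1 ((primeCompl_primeIdealOf hV η.1 hηV c.1).1 c.2)
        · show X.presheaf.stalkSpecializes η.2.2 _ = X.presheaf.stalkSpecializes η.2.2 _ * _
          rw [TopCat.Presheaf.germ_stalkSpecializes_apply, TopCat.Presheaf.germ_stalkSpecializes_apply, mul_comm]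
          exact hcm.symm
      have h0 : L.presheaf.stalkSpecializes η.2.2 (a • z - b • g) = 0 := by
        refine e.injective ?_
        rw [map_sub, RefOne.stalkSpecializes_smul, RefOne.stalkSpecializes_smul, map_sub, map_smul, map_smul, map_zero,
          heg]
        show sp η a * _ - sp η b * _ = 0
        rw [hb, mul_assoc, mul_assoc, IsUnit.val_inv_mul, mul_one, sub_self]
      obtain ⟨d, hd, hd0⟩ := exists_spec_kill L η.2.2 _ h0
      refine ⟨d * a, hu η _ ?_, d * b, ?_⟩
      · show IsUnit (sp η (d * a))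
        rw [map_mul]
        exact IsUnit.mul hd ha
      · rw [mul_smul, mul_smul]
        exact sub_eq_zero.1 (by rw [← smul_sub]; exact hd0)

/-- The stalks of a rank one torsion free module are free, or the maximal ideal at nodes. -/
theorem stalk_cases (hequi : ∀ Z ∈ irreducibleComponents (X : Type u), topologicalKrullDim Z = 1)
    (hX : Curv2.AtWorstNodal k X) {L : X.Modules} (hL : Coh.IsCoh L) (hLt : TorSh.IsTorsionFree L)
    (hrk : ∀ η ∈ genPts X, Module.finrank (X.presheaf.stalk η) (L.presheaf.stalk η) = 1) (x : X) :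
    Nonempty (X.presheaf.stalk x ≃ₗ[X.presheaf.stalk x] L.presheaf.stalk x) ∨
      Curv2.IsNode k X x ∧ Nonempty (L.presheaf.stalk x ≃ₗ[X.presheaf.stalk x] maximalIdeal (X.presheaf.stalk x)) := by
  haveI := EulerIneqLib.isNoetherian_proper (X := X) k
  haveI := NodePtLib.isReduced_of_atWorstNodal hequi hX
  obtain ⟨φ, hφ, m₀, hm₀⟩ := exists_stalk_ideal k hL hLt hrk x
  let E := LinearEquiv.ofInjective φ hφ
  have hfree : ∀ c, LinearMap.range φ = Ideal.span {c} →
      Nonempty (X.presheaf.stalk x ≃ₗ[X.presheaf.stalk x] L.presheaf.stalk x) := fun c hc => by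
    obtain ⟨a, ha⟩ := Ideal.mem_span_singleton'.1 (hc.le ⟨m₀, rfl⟩)
    have hcr : c ∈ nonZeroDivisors (X.presheaf.stalk x) := (mul_mem_nonZeroDivisors.1 (ha ▸ hm₀)).2
    exact ⟨(LinearEquiv.ofInjective (LinearMap.toSpanSingleton _ _ c) fun p q h =>
        (mul_cancel_right_mem_nonZeroDivisors hcr).1 h) ≪≫ₗ LinearEquiv.ofEq _ _ (by
      rw [LinearMap.range_toSpanSingleton, hc]) ≪≫ₗ E.symm⟩
  have hd1 : ringKrullDim (X.presheaf.stalk x) ≤ 1 := by
    rw [ringKrullDim_stalk_eq_coheight]
    refine le_trans (Order.coheight_le_krullDim _) ?_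
    rw [← DimLiftLib.topologicalKrullDim_eq]
    exact DimFormulaLib.topologicalKrullDim_le_of_components 1 fun η hη =>
      (hequi _ (DimFormulaLib.closure_mem_irreducibleComponents hη)).le
  rcases NodePtLib.smooth_or_node_at (k := k) hequi hX x with hs | hn
  · haveI := NodePtLib.regular_of_smooth_nhd hs
    haveI := VBLib.isPrincipalIdealRing_of_regular _ hd1
    exact Or.inl (hfree _ (Ideal.span_singleton_generator (LinearMap.range φ)).symm)
  · by_cases hp : ∃ c, LinearMap.range φ = Ideal.span {c}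
    · exact Or.inl (hp.elim hfree)
    push Not at hp
    haveI : Ring.KrullDimLE 1 (X.presheaf.stalk x) := Ring.krullDimLE_iff.2 (by exact_mod_cast hd1)
    obtain ⟨a, b, hg⟩ := exists_nodeGens k X hn
    obtain ⟨e⟩ := hg.equiv_maximal (LinearMap.range φ) ⟨m₀, rfl⟩ hm₀ hp
    exact Or.inr ⟨hn, ⟨E ≪≫ₗ e⟩⟩

end Groth.Agent.TFInterpNodeLib
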