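import Groth.Agent.StalkHomLib.Lift
import Groth.Agent.FlatLocus.ModInjFlat
import Groth.Agent.PullbackMod.OpenLocus
import Groth.Agent.QCohLib.Coherent

/-!
# Spreading out a map of stalks at a closed point, keeping it bijective away from the point
-/

set_option autoImplicit false
set_option backward.isDefEq.respectTransparency false
set_option linter.style.haveILetI false
set_option maxHeartbeats 1000000

universe u

open CategoryTheory CategoryTheory.Limits AlgebraicGeometry TopologicalSpace Opposite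
open IsLocalRing Groth.Agent.PullbackMod Groth.Agent.StalkHomLib

noncomputable section

namespace Groth.Agent.TFInterpNodeLib

/-- A finite submodule which can be pushed into another one element by element can be pushed at once. -/
theorem exists_smul_le {A : Type*} [CommRing A] {M : Type*} [AddCommGroup M] [Module A M] (S : Submonoid A)
    {K T : Submodule A M} (hK : K.FG) (h : ∀ k ∈ K, ∃ t ∈ S, t • k ∈ T) : ∃ t ∈ S, ∀ k ∈ K, t • k ∈ T := by
  classical
  obtain ⟨G, rfl⟩ := hK
  choose t ht htk using fun k : G => h k.1 (Submodule.subset_span k.2)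
  refine ⟨∏ k : G, t k, Submonoid.prod_mem _ fun k _ => ht k, fun z hz => ?_⟩
  induction hz using Submodule.span_induction with
  | mem k hk =>
    rw [← Finset.prod_erase_mul _ _ (Finset.mem_univ (⟨k, hk⟩ : G)), mul_smul]
    exact T.smul_mem _ (htk ⟨k, hk⟩)
  | zero => rw [smul_zero]; exact T.zero_mem
  | add a b _ _ ha hb => rw [smul_add]; exact T.add_mem ha hb
  | smul r a _ ha => rw [smul_comm]; exact T.smul_mem _ ha

variable {X : Scheme.{u}} {F N : X.Modules}

/-- A map of sections on an affine open, on a stalk. -/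
theorem exists_stalk_ext [Coh.IsQCoh F] [Coh.IsQCoh N] {V : X.Opens} (hV : IsAffineOpen V)
    (h : Γ(F, V) →ₗ[Γ(X, V)] Γ(N, V)) {y : X} (hy : y ∈ V) :
    ∃ H : F.presheaf.stalk y →ₗ[X.presheaf.stalk y] N.presheaf.stalk y,
      ∀ m : Γ(F, V), H (F.presheaf.germ V y hy m) = N.presheaf.germ V y hy (h m) := by
  letI algO : Algebra Γ(X, V) (X.presheaf.stalk y) := TopCat.Presheaf.algebra_section_stalk X.presheaf ⟨y, hy⟩
  letI := Module.compHom (F.presheaf.stalk y) (X.presheaf.germ V y hy).hom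
  letI := Module.compHom (N.presheaf.stalk y) (X.presheaf.germ V y hy).hom
  haveI : IsScalarTower Γ(X, V) (X.presheaf.stalk y) (F.presheaf.stalk y) := .of_algebraMap_smul fun _ _ => rfl
  haveI : IsScalarTower Γ(X, V) (X.presheaf.stalk y) (N.presheaf.stalk y) := .of_algebraMap_smul fun _ _ => rfl
  haveI := hV.isLocalization_stalk ⟨y, hy⟩
  haveI := FlatLocus.isLocalizedModule_germL F hV y hy
  haveI := FlatLocus.isLocalizedModule_germL N hV y hy
  refine ⟨(IsLocalizedModule.map (hV.primeIdealOf ⟨y, hy⟩).asIdeal.primeCompl (FlatLocus.germL F V y hy)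
    (FlatLocus.germL N V y hy) h).extendScalarsOfIsLocalization (hV.primeIdealOf ⟨y, hy⟩).asIdeal.primeCompl
      (X.presheaf.stalk y), fun m => ?_⟩
  exact IsLocalizedModule.map_apply _ (FlatLocus.germL F V y hy) (FlatLocus.germL N V y hy) h m

theorem exists_germ_rep (M : X.Modules) [Coh.IsQCoh M] {V : X.Opens} (hV : IsAffineOpen V) {y : X} (hy : y ∈ V)
    (z : M.presheaf.stalk y) : ∃ (a : Γ(X, V)) (m : Γ(M, V)), IsUnit (X.presheaf.germ V y hy a) ∧
      X.presheaf.germ V y hy a • z = M.presheaf.germ V y hy m := by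
  letI := Module.compHom (M.presheaf.stalk y) (X.presheaf.germ V y hy).hom
  haveI := FlatLocus.isLocalizedModule_germL M hV y hy
  obtain ⟨⟨m, a⟩, ha⟩ := IsLocalizedModule.surj (hV.primeIdealOf ⟨y, hy⟩).asIdeal.primeCompl
    (FlatLocus.germL M V y hy) z
  exact ⟨a.1, m, (X.mem_basicOpen a.1 y hy).1 ((primeCompl_primeIdealOf hV y hy a.1).1 a.2), ha⟩

theorem exists_of_germ_eq_zero (M : X.Modules) [Coh.IsQCoh M] {V : X.Opens} (hV : IsAffineOpen V) {y : X}
    (hy : y ∈ V) {m : Γ(M, V)} (hm : M.presheaf.germ V y hy m = 0) :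
    ∃ t ∈ (hV.primeIdealOf ⟨y, hy⟩).asIdeal.primeCompl, t • m = 0 := by
  letI := Module.compHom (M.presheaf.stalk y) (X.presheaf.germ V y hy).hom
  haveI := FlatLocus.isLocalizedModule_germL M hV y hy
  obtain ⟨s, hs⟩ := (IsLocalizedModule.eq_zero_iff (hV.primeIdealOf ⟨y, hy⟩).asIdeal.primeCompl
    (FlatLocus.germL M V y hy)).1 hm
  exact ⟨s.1, s.2, hs⟩

/-- Spreading out: stalk maps near `x` given locally by sections, bijective away from `x`. -/
theorem exists_spread [IsLocallyNoetherian X] (hF : Coh.IsCoh F) (hN : Coh.IsCoh N) {x : X}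
    (hxc : IsClosed ({x} : Set X)) (l : F.presheaf.stalk x →ₗ[X.presheaf.stalk x] N.presheaf.stalk x)
    (hinj : Function.Injective l)
    (hann : ∀ a ∈ maximalIdeal (X.presheaf.stalk x), ∀ z : N.presheaf.stalk x, a • z ∈ LinearMap.range l)
    {W₀ : X.Opens} (hW₀ : x ∈ W₀) :
    ∃ (W : X.Opens) (hxW : x ∈ W),
      W ≤ W₀ ∧ ∃ φ : ∀ y ∈ W, F.presheaf.stalk y →ₗ[X.presheaf.stalk y] N.presheaf.stalk y,
        (∀ (U : X.Opens) (m : Γ(F, U)) (y : X), y ∈ U → y ∈ W → ∃ (V : X.Opens) (i : V ≤ U) (_ : y ∈ V) (j : V ≤ W)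
          (g : Γ(N, V)), ∀ (z : X) (hz : z ∈ V),
            φ z (j hz) (F.presheaf.germ U z (i hz) m) = N.presheaf.germ V z hz g) ∧
        (∀ y (hy : y ∈ W), y ≠ x → Function.Bijective (φ y hy)) ∧
        Function.Injective (φ x hxW) ∧ LinearMap.range (φ x hxW) = LinearMap.range l := by
  haveI := hF.1
  haveI := hN.1
  obtain ⟨_, ⟨V : X.Opens, (hV : IsAffineOpen V), rfl⟩, hxV, hVW⟩ :=
    X.isBasis_affineOpens.exists_subset_of_mem_open (a := x) (u := ↑W₀) hW₀ W₀.2
  haveI : IsNoetherianRing Γ(X, V) := IsLocallyNoetherian.component_noetherian ⟨V, hV⟩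
  haveI := QCohLib.finite_sections_of_isCoh hF hV
  haveI := QCohLib.finite_sections_of_isCoh hN hV
  haveI : Module.FinitePresentation Γ(X, V) Γ(F, V) := Module.finitePresentation_of_finite _ _
  let p := (hV.primeIdealOf ⟨x, hxV⟩).asIdeal
  letI algO : Algebra Γ(X, V) (X.presheaf.stalk x) := TopCat.Presheaf.algebra_section_stalk X.presheaf ⟨x, hxV⟩
  -- a lift of the stalk map to sections
  obtain ⟨h, s, hs, hhs⟩ : ∃ (h : Γ(F, V) →ₗ[Γ(X, V)] Γ(N, V)) (s : Γ(X, V)), s ∈ p.primeCompl ∧
      ∀ m, N.presheaf.germ V x hxV (h m) = X.presheaf.germ V x hxV s • l (F.presheaf.germ V x hxV m) := by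
    letI := Module.compHom (F.presheaf.stalk x) (X.presheaf.germ V x hxV).hom
    letI := Module.compHom (N.presheaf.stalk x) (X.presheaf.germ V x hxV).hom
    haveI := FlatLocus.isLocalizedModule_germL N hV x hxV
    let g : Γ(F, V) →ₗ[Γ(X, V)] N.presheaf.stalk x :=
      { toFun := fun m => l (F.presheaf.germ V x hxV m)
        map_add' := fun a b => by rw [map_add, map_add]
        map_smul' := fun a m => by
          show l (F.presheaf.germ V x hxV (a • m)) = X.presheaf.germ V x hxV a • l (F.presheaf.germ V x hxV m)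
          rw [germ_smul', map_smul] }
    obtain ⟨h, s, hs⟩ := Module.FinitePresentation.exists_lift_of_isLocalizedModule p.primeCompl
      (FlatLocus.germL N V x hxV) g
    exact ⟨h, s.1, s.2, fun m => LinearMap.congr_fun hs m⟩
  have hsu : IsUnit (X.presheaf.germ V x hxV s) :=
    (X.mem_basicOpen s x hxV).1 ((primeCompl_primeIdealOf hV x hxV s).1 hs)
  -- the kernel is killed
  obtain ⟨t₁, ht₁, htK⟩ := exists_smul_le p.primeCompl (K := LinearMap.ker h) (T := ⊥)
    (IsNoetherian.noetherian _) fun k hk => by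
      have h0 : N.presheaf.germ V x hxV (h k) = 0 := by rw [LinearMap.mem_ker.1 hk, map_zero]
      rw [hhs] at h0
      have h1 : F.presheaf.germ V x hxV k = 0 := hinj ((hsu.smul_eq_zero.1 h0).trans (map_zero l).symm)
      obtain ⟨t, ht, htk⟩ := exists_of_germ_eq_zero F hV hxV h1
      exact ⟨t, ht, (Submodule.mem_bot _).2 htk⟩
  -- the cokernel is killed by the ideal of the point
  obtain ⟨t₂, ht₂, htC⟩ := exists_smul_le p.primeCompl (K := p • (⊤ : Submodule Γ(X, V) Γ(N, V)))
    (T := LinearMap.range h) (IsNoetherian.noetherian _) fun w hw => by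
      have h0 : N.presheaf.germ V x hxV w ∈ LinearMap.range l := by
        induction hw using Submodule.smul_induction_on' with
        | smul a ha v _ =>
          rw [germ_smul']
          refine hann _ ((mem_maximalIdeal _).2 fun hu => ?_) _
          exact (primeCompl_primeIdealOf hV x hxV a).2 ((X.mem_basicOpen a x hxV).2 hu) ha
        | add a _ b _ ha hb => rw [map_add]; exact Submodule.add_mem _ ha hb
      obtain ⟨z, hz⟩ := h0
      obtain ⟨c, m, hc, hcm⟩ := exists_germ_rep F hV hxV z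
      have h1 : N.presheaf.germ V x hxV (h m - (s * c) • w) = 0 := by
        rw [map_sub, germ_smul', hhs, ← hcm, map_smul, hz, map_mul, mul_smul, sub_self]
      obtain ⟨t, ht, htw⟩ := exists_of_germ_eq_zero N hV hxV h1
      refine ⟨t * (s * c), p.primeCompl.mul_mem ht (p.primeCompl.mul_mem hs ?_), t • m, ?_⟩
      · exact (primeCompl_primeIdealOf hV x hxV c).2 ((X.mem_basicOpen c x hxV).2 hc)
      · rw [map_smul, mul_smul]
        exact sub_eq_zero.1 (by rw [← smul_sub]; exact htw)
  refine ⟨X.basicOpen (t₁ * t₂), ?_, (X.basicOpen_le _).trans hVW, ?_⟩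
  · exact (primeCompl_primeIdealOf hV x hxV _).1 (p.primeCompl.mul_mem ht₁ ht₂)
  choose H hH using fun (y : X) (hy : y ∈ V) => exists_stalk_ext hV h hy
  refine ⟨fun y hy => H y (X.basicOpen_le _ hy), ?_, ?_, ?_, ?_⟩
  · intro U m y hyU hyW
    have hyV : y ∈ V := X.basicOpen_le _ hyW
    obtain ⟨a, m₀, ha, ham⟩ := exists_germ_rep F hV hyV (F.presheaf.germ U y hyU m)
    have hya : y ∈ X.basicOpen a := (X.mem_basicOpen a y hyV).2 ha
    let O : X.Opens := U ⊓ X.basicOpen a ⊓ X.basicOpen (t₁ * t₂)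
    have hOV : O ≤ V := inf_le_right.trans (X.basicOpen_le _)
    have hyO : y ∈ O := ⟨⟨hyU, hya⟩, hyW⟩
    have hau : IsUnit (X.presheaf.map (homOfLE hOV).op a) := by
      refine (X.toRingedSpace.isUnit_of_isUnit_germ O _ fun z hz => ?_)
      rw [TopCat.Presheaf.germ_res_apply]
      exact (X.mem_basicOpen a z (hOV hz)).1 hz.1.2
    obtain ⟨Q, hyQ, i₁, i₂, hQ⟩ := TopCat.Presheaf.germ_eq F.presheaf y hyO hyV
      (X.presheaf.map (homOfLE hOV).op a • F.presheaf.map (homOfLE (inf_le_left.trans inf_le_left : O ≤ U)).op m) m₀ (by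
        rw [germ_smul', TopCat.Presheaf.germ_res_apply, StalkHomLib.germ_res]
        exact ham)
    refine ⟨Q, (leOfHom i₁).trans (inf_le_left.trans inf_le_left), hyQ, (leOfHom i₁).trans inf_le_right,
      X.presheaf.map i₁.op ↑hau.unit⁻¹ • N.presheaf.map (homOfLE ((leOfHom i₁).trans hOV)).op (h m₀), fun z hz => ?_⟩
    have hzO : z ∈ O := leOfHom i₁ hz
    have hz0 : F.presheaf.germ V z (hOV hzO) m₀ =
        X.presheaf.germ V z (hOV hzO) a • F.presheaf.germ U z hzO.1.1 m := by
      have e := congrArg (F.presheaf.germ Q z hz) hQ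
      rw [TopCat.Presheaf.germ_res_apply, TopCat.Presheaf.germ_res_apply, germ_smul',
        TopCat.Presheaf.germ_res_apply, StalkHomLib.germ_res] at e
      exact e.symm
    have h1 := congrArg (H z (hOV hzO)) hz0
    rw [hH, map_smul] at h1
    show H z _ _ = _
    rw [germ_smul', TopCat.Presheaf.germ_res_apply, TopCat.Presheaf.germ_res_apply, h1, smul_smul,
      ← TopCat.Presheaf.germ_res_apply X.presheaf (homOfLE hOV) z hzO a, ← map_mul,
      IsUnit.val_inv_mul, map_one, one_smul]
  · intro y hy hne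
    have hyV : y ∈ V := X.basicOpen_le _ hy
    have htu : IsUnit (X.presheaf.germ V y hyV (t₁ * t₂)) := (X.mem_basicOpen _ y hyV).1 hy
    rw [map_mul] at htu
    obtain ⟨ht1u, ht2u⟩ := IsUnit.mul_iff.1 htu
    constructor
    · refine (injective_iff_map_eq_zero _).2 fun z hz => ?_
      obtain ⟨c, m, hc, hcm⟩ := exists_germ_rep F hV hyV z
      have h0 : N.presheaf.germ V y hyV (h m) = 0 := by
        rw [← hH y hyV, ← hcm, map_smul, hz, smul_zero]
      obtain ⟨d, hd, hdm⟩ := exists_of_germ_eq_zero N hV hyV h0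
      have hk : d • m ∈ LinearMap.ker h := by rw [LinearMap.mem_ker, map_smul, hdm]
      have h1 := congrArg (F.presheaf.germ V y hyV) ((Submodule.mem_bot _).1 (htK _ hk))
      rw [map_zero, germ_smul', germ_smul', ht1u.smul_eq_zero,
        ((X.mem_basicOpen d y hyV).1 ((primeCompl_primeIdealOf hV y hyV d).1 hd)).smul_eq_zero, ← hcm,
        hc.smul_eq_zero] at h1
      exact h1
    · intro v
      obtain ⟨c, n, hc, hcn⟩ := exists_germ_rep N hV hyV v
      obtain ⟨a, hap, haq⟩ : ∃ a ∈ p, a ∉ (hV.primeIdealOf ⟨y, hyV⟩).asIdeal := by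
        refine SetLike.not_le_iff_exists.1 fun hle => hne ?_
        have he := (hV.primeIdealOf_isMaximal_of_isClosed ⟨x, hxV⟩ hxc).eq_of_le
          (hV.primeIdealOf ⟨y, hyV⟩).isPrime.ne_top hle
        exact
          (hV.fromSpec_primeIdealOf ⟨y, hyV⟩).symm.trans ((congrArg hV.fromSpec (PrimeSpectrum.ext he.symm)).trans
            (hV.fromSpec_primeIdealOf ⟨x, hxV⟩))
      obtain ⟨m, hm⟩ := htC _ (Submodule.smul_mem_smul hap (Submodule.mem_top (x := n)))
      have hau : IsUnit (X.presheaf.germ V y hyV a) :=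
        (X.mem_basicOpen a y hyV).1 ((primeCompl_primeIdealOf hV y hyV a).1 haq)
      obtain ⟨u, hu⟩ := (ht2u.mul (hau.mul hc))
      refine ⟨(↑u⁻¹ : X.presheaf.stalk y) • F.presheaf.germ V y hyV m, ?_⟩
      show H y hyV _ = v
      rw [map_smul, hH, hm, germ_smul', germ_smul', ← hcn, smul_smul, smul_smul, smul_smul,
        mul_assoc, mul_assoc, ← hu, Units.inv_mul, one_smul]
  all_goals
    have key : ∀ z, H x hxV z = X.presheaf.germ V x hxV s • l z := fun z => by
      obtain ⟨c, m, hc, hcm⟩ := exists_germ_rep F hV hxV z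
      apply hc.smul_left_cancel.1
      rw [← map_smul, hcm, hH, hhs, ← hcm, map_smul, smul_comm]
  · intro a b hab
    rw [key, key] at hab
    exact hinj (hsu.smul_left_cancel.1 hab)
  · ext v
    constructor
    · rintro ⟨z, rfl⟩
      exact ⟨X.presheaf.germ V x hxV s • z, (map_smul l _ _).trans (key z).symm⟩
    · rintro ⟨z, rfl⟩
      refine ⟨(↑hsu.unit⁻¹ : X.presheaf.stalk x) • z, ?_⟩
      rw [key, map_smul, smul_smul, IsUnit.mul_val_inv, one_smul]

end Groth.Agent.TFInterpNodeLib
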