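import Groth.Agent.TFInterpNodeLib.Spread
import Groth.Agent.EtAlgEasy.PrinPartStalkMod
import Groth.Agent.DCohLib.SuppOpen
import Groth.Agent.DCohLib.MVOpen

/-!
# Modifying a module at one closed point
-/

set_option autoImplicit false
set_option backward.isDefEq.respectTransparency false
set_option linter.style.haveILetI false
set_option maxHeartbeats 1000000

universe u

open CategoryTheory CategoryTheory.Limits AlgebraicGeometry TopologicalSpace Opposite
open IsLocalRing Groth.Agent.PullbackMod Groth.Agent.DCohLib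

noncomputable section

namespace Groth.Agent.TFInterpNodeLib

variable {X : Scheme.{u}}

theorem bijective_of_isIso_restrict {M N : X.Modules} (φ : M ⟶ N) (U : X.Opens)
    (h : IsIso ((Scheme.Modules.restrictFunctor U.ι).map φ)) {y : X} (hy : y ∈ U) :
    Function.Bijective (stalkLin φ y) := by
  have h2 : IsIso ((Scheme.Modules.restrictFunctor U.ι ⋙ Scheme.Modules.toPresheaf _ ⋙
      TopCat.Presheaf.stalkFunctor AddCommGrpCat.{u} (⟨y, hy⟩ : U)).map φ) :=
    @Functor.map_isIso _ _ _ _ _ _ (Scheme.Modules.toPresheaf (U : Scheme.{u}) ⋙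
      TopCat.Presheaf.stalkFunctor (X := (U : Scheme.{u}).toTopCat) AddCommGrpCat.{u} (⟨y, hy⟩ : U))
      ((Scheme.Modules.restrictFunctor U.ι).map φ) h
  exact @ConcreteCategory.bijective_of_isIso _ _ _ _ _ _ _ _
    ((Scheme.Modules.toPresheaf _ ⋙ TopCat.Presheaf.stalkFunctor AddCommGrpCat.{u} y).map φ)
    ((NatIso.isIso_map_iff (Scheme.Modules.restrictStalkNatIso U.ι (⟨y, hy⟩ : U)) _).1 h2)

theorem isIso_restrict_of_bijective {M N : X.Modules} (φ : M ⟶ N) (U : X.Opens)
    (h : ∀ y ∈ U, Function.Bijective (stalkLin φ y)) : IsIso ((Scheme.Modules.restrictFunctor U.ι).map φ) := by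
  refine (isIso_iff_stalk _).2 fun u => ?_
  haveI : IsIso ((Scheme.Modules.toPresheaf _ ⋙ TopCat.Presheaf.stalkFunctor AddCommGrpCat.{u} (U.ι u)).map φ) :=
    (ConcreteCategory.isIso_iff_bijective _).2 (h _ u.2)
  haveI := (NatIso.isIso_map_iff (Scheme.Modules.restrictStalkNatIso U.ι u) φ).2 ‹_›
  exact ConcreteCategory.bijective_of_isIso
    ((Scheme.Modules.restrictFunctor U.ι ⋙ Scheme.Modules.toPresheaf _ ⋙
      TopCat.Presheaf.stalkFunctor AddCommGrpCat.{u} u).map φ)

theorem bijective_counit (W : X.Opens) (M : X.Modules) {y : X} (hy : y ∈ W) :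
    Function.Bijective (stalkLin ((CxOX.extZeroAdj W.ι).counit.app M) y) := by
  refine bijective_of_isIso_restrict _ W ?_ hy
  have h := (CxOX.extZeroAdj W.ι).right_triangle_components M
  haveI : IsIso ((CxOX.extZeroAdj W.ι).unit.app ((Scheme.Modules.restrictFunctor W.ι).obj M) ≫
      (Scheme.Modules.restrictFunctor W.ι).map ((CxOX.extZeroAdj W.ι).counit.app M)) := by
    rw [h]; infer_instance
  exact IsIso.of_isIso_comp_left ((CxOX.extZeroAdj W.ι).unit.app _) _

/-- Pushouts on stalks. -/
theorem bijective_stalk_pushout_inl {A B C : X.Modules} (f : A ⟶ B) (g : A ⟶ C) (y : X)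
    (hg : Function.Bijective (stalkLin g y)) : Function.Bijective (stalkLin (pushout.inl f g) y) := by
  haveI : IsIso ((stkF y).map g) := (ConcreteCategory.isIso_iff_bijective _).2 hg
  haveI := ((IsPushout.of_hasPushout f g).map (stkF y)).isIso_inl_of_isIso
  exact ConcreteCategory.bijective_of_isIso ((stkF y).map (pushout.inl f g))

theorem bijective_stalk_pushout_inr {A B C : X.Modules} (f : A ⟶ B) (g : A ⟶ C) (y : X)
    (hf : Function.Bijective (stalkLin f y)) : Function.Bijective (stalkLin (pushout.inr f g) y) := by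
  haveI : IsIso ((stkF y).map f) := (ConcreteCategory.isIso_iff_bijective _).2 hf
  haveI := ((IsPushout.of_hasPushout f g).map (stkF y)).isIso_inr_of_isIso
  exact ConcreteCategory.bijective_of_isIso ((stkF y).map (pushout.inr f g))

/-- Modifying a module at a closed point. -/
theorem exists_step [IsLocallyNoetherian X] {F N G : X.Modules} (hF : Coh.IsCoh F) (hN : Coh.IsCoh N)
    (j : F ⟶ G) {x : X} (hxc : IsClosed ({x} : Set X))
    (l : F.presheaf.stalk x →ₗ[X.presheaf.stalk x] N.presheaf.stalk x) (hinj : Function.Injective l)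
    (hann : ∀ a ∈ maximalIdeal (X.presheaf.stalk x), ∀ z : N.presheaf.stalk x, a • z ∈ LinearMap.range l)
    {W₀ : X.Opens} (hW₀ : x ∈ W₀) (hj : ∀ y ∈ W₀, Function.Bijective (stalkLin j y)) :
    ∃ (G' : X.Modules) (i : G ⟶ G'), Mono i ∧ (∀ y, y ≠ x → Function.Bijective (stalkLin i y)) ∧
      (∃ W : X.Opens, x ∈ W ∧ W ≤ W₀ ∧ Nonempty (G'.restrict W.ι ≅ N.restrict W.ι)) ∧
      Nonempty ((N.presheaf.stalk x ⧸ LinearMap.range l) ≃ₗ[X.presheaf.stalk x]
        (G'.presheaf.stalk x ⧸ LinearMap.range (stalkLin (j ≫ i) x))) := by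
  classical
  obtain ⟨W, hxW, hW, φ, hloc, hbij, hφi, hφr⟩ := exists_spread hF hN hxc l hinj hann hW₀
  let adj := CxOX.extZeroAdj W.ι
  let P := (CxOX.extZero W.ι).obj ((Scheme.Modules.restrictFunctor W.ι).obj F)
  let Q := (CxOX.extZero W.ι).obj ((Scheme.Modules.restrictFunctor W.ι).obj N)
  let c : P ⟶ F := adj.counit.app F
  let d : Q ⟶ N := adj.counit.app N
  haveI hcm : Mono c := mono_extZero_counit W F
  haveI hdm : Mono d := mono_extZero_counit W N
  have hc : ∀ y ∈ W, Function.Bijective (stalkLin c y) := fun y hy => bijective_counit W F hy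
  have hd : ∀ y ∈ W, Function.Bijective (stalkLin d y) := fun y hy => bijective_counit W N hy
  have hP : ∀ y, y ∉ W → Subsingleton (P.presheaf.stalk y) := fun y hy => subsingleton_stalk_extZero W _ y hy
  let φP : ∀ y : X, P.presheaf.stalk y →ₗ[X.presheaf.stalk y] N.presheaf.stalk y := fun y =>
    if hy : y ∈ W then (φ y hy).comp (stalkLin c y) else 0
  -- the map on the extension by zero
  obtain ⟨u₀, hu₀⟩ := EtAlgEasy.PrinPartStalkMod.exists_hom_of_stalk φP (fun U m y hy => by
    by_cases hyW : y ∈ W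
    · obtain ⟨V, i, hyV, i', g, hg⟩ := hloc U (c.app U m) y hy hyW
      refine ⟨V, i, hyV, g, fun z hz => ?_⟩
      simp only [φP, dif_pos (i' hz)]
      show φ z (i' hz) (stalkLin c z _) = _
      rw [stalkLin_germ]
      exact hg z hz
    · have h0 : P.presheaf.germ U y hy m = P.presheaf.germ U y hy 0 := @Subsingleton.elim _ (hP y hyW) _ _
      obtain ⟨V, hyV, i₁, i₂, hV⟩ := TopCat.Presheaf.germ_eq P.presheaf y hy hy m 0 h0
      refine ⟨V, leOfHom i₁, hyV, 0, fun z hz => ?_⟩
      have := congrArg (P.presheaf.germ V z hz) hV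
      rw [TopCat.Presheaf.germ_res_apply, TopCat.Presheaf.germ_res_apply, map_zero] at this
      rw [this, map_zero, map_zero])
  have hu : ∀ y, stalkLin u₀ y = φP y := fun y => LinearMap.ext fun z => by
    obtain ⟨U, hy, m, rfl⟩ := TopCat.Presheaf.exists_germ_eq P.presheaf z
    rw [stalkLin_germ]
    exact hu₀ U m y hy
  -- it factors through the extension by zero
  have hfac : u₀ ≫ cokernel.π d = 0 := (eq_zero_iff_stalk _).2 fun y => LinearMap.ext fun z => by
    rw [stalkLin_comp, LinearMap.comp_apply, LinearMap.zero_apply]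
    by_cases hy : y ∈ W
    · obtain ⟨w, hw⟩ := (hd y hy).2 (stalkLin u₀ y z)
      rw [← hw, ← LinearMap.comp_apply, ← stalkLin_comp, cokernel.condition, (eq_zero_iff_stalk _).1 rfl y,
        LinearMap.zero_apply]
    · rw [@Subsingleton.elim _ (hP y hy) z 0, map_zero, map_zero]
  let u : P ⟶ Q := Abelian.monoLift d u₀ hfac
  have hud : u ≫ d = u₀ := Abelian.monoLift_comp d u₀ hfac
  have hud' : ∀ y, (stalkLin d y).comp (stalkLin u y) = φP y := fun y => by rw [← stalkLin_comp, hud, hu]
  have hdinj : ∀ y, Function.Injective (stalkLin d y) := (mono_iff_stalk d).1 hdm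
  have hQ : ∀ y, y ∉ W → Subsingleton (Q.presheaf.stalk y) := fun y hy => subsingleton_stalk_extZero W _ y hy
  have hub : ∀ y, y ≠ x → Function.Bijective (stalkLin u y) := fun y hne => by
    by_cases hy : y ∈ W
    · have h : Function.Bijective ((stalkLin d y).comp (stalkLin u y)) := by
        rw [hud', show φP y = (φ y hy).comp (stalkLin c y) from dif_pos hy]
        exact (hbij y hy hne).comp (hc y hy)
      exact (Function.Bijective.of_comp_iff' (hd y hy) _).1 h
    · haveI := hP y hy
      haveI := hQ y hy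
      exact ⟨fun a b _ => Subsingleton.elim a b, fun b => ⟨0, Subsingleton.elim _ b⟩⟩
  haveI hum : Mono u := (mono_iff_stalk u).2 fun y => by
    rcases eq_or_ne y x with rfl | hne
    · refine Function.Injective.of_comp (f := stalkLin d y) ?_
      rw [← LinearMap.coe_comp, hud', show φP y = (φ y hxW).comp (stalkLin c y) from dif_pos hxW]
      exact hφi.comp (hc y hxW).1
    · exact (hub y hne).1
  -- the pushout
  let i := pushout.inl (c ≫ j) u
  let r := pushout.inr (c ≫ j) u
  have hcj : ∀ y ∈ W, Function.Bijective (stalkLin (c ≫ j) y) := fun y hy => by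
    rw [stalkLin_comp]
    exact (hj y (hW hy)).comp (hc y hy)
  have hr : ∀ y ∈ W, Function.Bijective (stalkLin r y) := fun y hy => bijective_stalk_pushout_inr _ _ y (hcj y hy)
  refine ⟨_, i, inferInstance, fun y hne => bijective_stalk_pushout_inl _ _ y (hub y hne), ⟨W, hxW, hW, ?_⟩, ?_⟩
  · haveI := isIso_restrict_of_bijective r W hr
    haveI := isIso_restrict_of_bijective d W hd
    exact ⟨(asIso ((Scheme.Modules.restrictFunctor W.ι).map r)).symm ≪≫
      asIso ((Scheme.Modules.restrictFunctor W.ι).map d)⟩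
  · let E : N.presheaf.stalk x ≃ₗ[X.presheaf.stalk x] (pushout (c ≫ j) u).presheaf.stalk x :=
      (LinearEquiv.ofBijective _ (hd x hxW)).symm ≪≫ₗ LinearEquiv.ofBijective _ (hr x hxW)
    refine ⟨Submodule.Quotient.equiv _ _ E ?_⟩
    rw [← hφr]
    have h1 : (E.toLinearMap.comp (φ x hxW)).comp (stalkLin c x) = (stalkLin (j ≫ i) x).comp (stalkLin c x) := by
      have e1 : (stalkLin d x).comp (stalkLin u x) = (φ x hxW).comp (stalkLin c x) := by
        rw [hud', show φP x = (φ x hxW).comp (stalkLin c x) from dif_pos hxW]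
      rw [LinearMap.comp_assoc, ← e1, ← stalkLin_comp c (j ≫ i), ← Category.assoc, pushout.condition, stalkLin_comp]
      ext z
      simp [E, r]
    have h2 := congrArg LinearMap.range h1
    rw [LinearMap.range_comp_of_range_eq_top _ (LinearMap.range_eq_top.2 (hc x hxW).2),
      LinearMap.range_comp_of_range_eq_top _ (LinearMap.range_eq_top.2 (hc x hxW).2), LinearMap.range_comp] at h2
    exact h2

end Groth.Agent.TFInterpNodeLib
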